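/-
Class facts about `A₇` needed for the trace relations.
Main results:
* `alt_real_of_even_order` : elements of even order are real
* `alt_order_cases` : the element orders prime to five
* `alt_isConj_sq` : elements of order seven are conjugate to their squares
-/
import Cfsg.Agent.Lib.Mitchell.Ident.Psl
import Cfsg.Agent.Lib.CoverSixSeven.Alt

set_option autoImplicit false
set_option linter.unusedSectionVars false

namespace Cfsg.Agent.Mitchell.Residual

open Equiv Equiv.Perm

theorem alt_len_mem {u : alternatingGroup (Fin 7)} {n : ℕ} (h : n ∈ (u : Perm (Fin 7)).cycleType) :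
    2 ≤ n ∧ n ≤ 7 := by
  refine ⟨two_le_of_mem_cycleType h, ?_⟩
  have h1 := Multiset.le_sum_of_mem h
  rw [sum_cycleType] at h1
  exact h1.trans (by simpa using Finset.card_le_univ (u : Perm (Fin 7)).support)

theorem alt_real_of_even_order {u : alternatingGroup (Fin 7)} (h : 2 ∣ orderOf u) : IsConj u u⁻¹ := by
  obtain ⟨f, hf, hodd⟩ : ∃ f ∈ (u : Perm (Fin 7)).cycleFactorsFinset, Even f.support.card := by
    by_contra hh
    push Not at hh
    have h105 : (u : Perm (Fin 7)).cycleType.lcm ∣ 105 := Multiset.lcm_dvd.2 fun n hn => by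
      obtain ⟨h2, h7⟩ := alt_len_mem hn
      rw [cycleType_def, Multiset.mem_map] at hn
      obtain ⟨f, hf, rfl⟩ := hn
      have ho : ¬ Even f.support.card := hh f hf
      simp only [Function.comp_apply] at h2 h7 ⊢
      interval_cases hc : f.support.card <;> first | omega | (norm_num; done) | exact absurd (by decide) ho
    rw [lcm_cycleType, Subgroup.orderOf_coe] at h105
    exact absurd (h.trans h105) (by norm_num)
  have hcyc : f.IsCycle := (mem_cycleFactorsFinset_iff.1 hf).1
  have hsign : sign f = -1 := by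
    rw [hcyc.sign, Even.neg_one_pow hodd]
  have hcomm : Commute f (u : Perm (Fin 7)) := self_mem_cycle_factors_commute hf
  obtain ⟨c, hc⟩ := isConj_iff.1
    ((isConj_iff_cycleType_eq).2 (cycleType_inv (u : Perm (Fin 7))).symm :
      IsConj (u : Perm (Fin 7)) (u : Perm (Fin 7))⁻¹)
  rcases Int.units_eq_one_or (sign c) with h1 | h1
  · exact isConj_iff.2 ⟨⟨c, mem_alternatingGroup.2 h1⟩, Subtype.ext hc⟩
  · refine isConj_iff.2 ⟨⟨c * f, mem_alternatingGroup.2 (by rw [map_mul, h1, hsign]; decide)⟩,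
      Subtype.ext ?_⟩
    show c * f * (u : Perm (Fin 7)) * (c * f)⁻¹ = (u : Perm (Fin 7))⁻¹
    rw [mul_assoc c f, hcomm.eq, ← hc]
    group

theorem alt_order_cases {u : alternatingGroup (Fin 7)} (h : (orderOf u).Coprime 5) :
    orderOf u ∣ 7 ∨ orderOf u ∣ 4 ∨ orderOf u ∣ 6 := by
  rw [← Subgroup.orderOf_coe, ← lcm_cycleType]
  set m := (u : Perm (Fin 7)).cycleType with hm
  have hsum : m.sum ≤ 7 := by
    rw [hm, sum_cycleType]
    simpa using Finset.card_le_univ (u : Perm (Fin 7)).support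
  have h5 : 5 ∉ m := fun h5 => by
    have h1 : 5 ∣ orderOf u := by
      rw [← Subgroup.orderOf_coe, ← lcm_cycleType]; exact Multiset.dvd_lcm h5
    exact absurd (Nat.eq_one_of_dvd_coprimes h h1 dvd_rfl) (by norm_num)
  have two : ∀ {n}, n ∈ m → 2 ≤ n ∧ n ≤ 7 := fun hn => alt_len_mem hn
  have pair : ∀ {a b}, a ∈ m → b ∈ m → a ≠ b → a + b + ((m.erase a).erase b).sum = m.sum := by
    intro a b ha hb hab
    have hb' : b ∈ m.erase a := (Multiset.mem_erase_of_ne (Ne.symm hab)).2 hb
    conv_rhs => rw [← Multiset.cons_erase ha, Multiset.sum_cons, ← Multiset.cons_erase hb',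
      Multiset.sum_cons, ← add_assoc]
  by_cases h7 : 7 ∈ m
  · refine Or.inl (Multiset.lcm_dvd.2 fun n hn => ?_)
    by_contra hne
    have hn7 : (7 : ℕ) ≠ n := fun e => hne (e ▸ dvd_rfl)
    have := pair h7 hn hn7
    have := two hn
    omega
  by_cases h4 : 4 ∈ m
  · refine Or.inr (Or.inl (Multiset.lcm_dvd.2 fun n hn => ?_))
    obtain ⟨h2, h7'⟩ := two hn
    rcases eq_or_ne (4 : ℕ) n with rfl | hne
    · exact dvd_rfl
    have hp := pair h4 hn hne
    have hlt : n ≤ 3 := by omega
    interval_cases n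
    · norm_num
    · exfalso
      have hrest : (m.erase 4).erase 3 = 0 := by
        by_contra hne0
        obtain ⟨k, hk⟩ := Multiset.exists_mem_of_ne_zero hne0
        have hk2 := two (Multiset.mem_of_mem_erase (Multiset.mem_of_mem_erase hk))
        have := Multiset.le_sum_of_mem hk
        omega
      have hm43 : m = 4 ::ₘ 3 ::ₘ 0 := by
        rw [← hrest, Multiset.cons_erase ((Multiset.mem_erase_of_ne (by norm_num)).2 hn),
          Multiset.cons_erase h4]
      have hs : sign (u : Perm (Fin 7)) = 1 := mem_alternatingGroup.1 u.2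
      rw [sign_of_cycleType, ← hm, hm43] at hs
      exact absurd hs (by decide)
  · refine Or.inr (Or.inr (Multiset.lcm_dvd.2 fun n hn => ?_))
    obtain ⟨h2, h7'⟩ := two hn
    interval_cases n <;> first | (norm_num; done) | exact absurd hn h4 | exact absurd hn h5 | exact absurd hn h7

theorem alt_isConj_sq {u : alternatingGroup (Fin 7)} (h : u ^ 7 = 1) : IsConj (u ^ 2) u := by
  rcases eq_or_ne u 1 with rfl | h1
  · rw [one_pow]
  haveI : Fact (Nat.Prime 7) := ⟨by norm_num⟩
  obtain ⟨x, w, hx7, hx1, hw⟩ := Ident.alt_seven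
  have hfac : (Nat.card (alternatingGroup (Fin 7))).factorization 7 = 1 := by
    rw [CoverSixSeven.card_alt_seven, show 2520 = 7 * 360 from rfl, Nat.factorization_mul (by norm_num) (by norm_num)]
    simp [(show Nat.Prime 7 by norm_num).factorization_self,
      Nat.factorization_eq_zero_of_not_dvd (show ¬ 7 ∣ 360 by norm_num)]
  let T : Sylow 7 (alternatingGroup (Fin 7)) := Sylow.ofCard (Subgroup.zpowers u)
    (by rw [hfac, pow_one, Nat.card_zpowers, orderOf_eq_prime h h1])
  let T' : Sylow 7 (alternatingGroup (Fin 7)) := Sylow.ofCard (Subgroup.zpowers x)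
    (by rw [hfac, pow_one, Nat.card_zpowers, orderOf_eq_prime hx7 hx1])
  obtain ⟨g, hg⟩ := MulAction.exists_smul_eq (alternatingGroup (Fin 7)) T' T
  have huT : u ∈ (T : Subgroup (alternatingGroup (Fin 7))) := Subgroup.mem_zpowers u
  rw [← hg, Sylow.coe_subgroup_smul] at huT
  obtain ⟨_, ⟨i, rfl⟩, hy⟩ := huT
  have hy' : g * x ^ i * g⁻¹ = u := hy
  symm
  refine isConj_iff.2 ⟨g * w * g⁻¹, ?_⟩
  have h3 : w * x ^ i * w⁻¹ = x ^ i * x ^ i := by
    rw [← conj_zpow, hw, pow_two, (Commute.refl x).mul_zpow]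
  rw [← hy']
  calc g * w * g⁻¹ * (g * x ^ i * g⁻¹) * (g * w * g⁻¹)⁻¹ = g * (w * x ^ i * w⁻¹) * g⁻¹ := by group
    _ = (g * x ^ i * g⁻¹) ^ 2 := by rw [h3, pow_two]; group

end Cfsg.Agent.Mitchell.Residual
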