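/-
Trace relations read off from the classes of the quotient modulo scalars.
Main results:
* `cayley_three` : the Cayley-Hamilton identity in dimension three and determinant one
* `trace_five` : a real element of order five whose square has the same trace lives in characteristic five
* `Res.trc_zpow_of_coprime` : transfer of conjugacy for orders prime to three
* `Res.trc_eq_zero_of_order_three` : traces vanish on elements of image order three
-/
import Cfsg.Agent.Lib.Mitchell.Residual.Traces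

set_option autoImplicit false
set_option linter.unusedSectionVars false
set_option linter.style.haveILetI false

namespace Cfsg.Agent.Mitchell.Residual

open Matrix

universe u

variable {F : Type u} [Field F]

theorem cayley_three (g : GL (Fin 3) F) (hd : (g : Matrix (Fin 3) (Fin 3) F).det = 1) :
    (g : Matrix (Fin 3) (Fin 3) F) ^ 3 =
      (g : Matrix (Fin 3) (Fin 3) F).trace • (g : Matrix (Fin 3) (Fin 3) F) ^ 2 -
        ((g⁻¹ : GL (Fin 3) F) : Matrix (Fin 3) (Fin 3) F).trace • (g : Matrix (Fin 3) (Fin 3) F) + 1 := by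
  have hinv : ((g⁻¹ : GL (Fin 3) F) : Matrix (Fin 3) (Fin 3) F) = adjugate (g : Matrix (Fin 3) (Fin 3) F) := by
    calc ((g⁻¹ : GL (Fin 3) F) : Matrix (Fin 3) (Fin 3) F)
        = (((g⁻¹ : GL (Fin 3) F) : Matrix (Fin 3) (Fin 3) F)) *
          ((g : Matrix (Fin 3) (Fin 3) F) * adjugate (g : Matrix (Fin 3) (Fin 3) F)) := by
            rw [Matrix.mul_adjugate, hd, one_smul, mul_one]
      _ = _ := by rw [← mul_assoc, ← Units.val_mul, inv_mul_cancel, Units.val_one, one_mul]
  rw [hinv]
  generalize hM : (g : Matrix (Fin 3) (Fin 3) F) = M at hd ⊢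
  rw [Matrix.det_fin_three] at hd
  ext i j
  fin_cases i <;> fin_cases j <;>
    simp [pow_succ, Matrix.mul_apply, Matrix.trace, Fin.sum_univ_three, Matrix.adjugate_fin_three] <;>
    first | ring1 | linear_combination hd | linear_combination -hd

/-- A real element of order five with `tr x = tr x²` needs characteristic five. -/
theorem trace_five {g : GL (Fin 3) F} (hd : (g : Matrix (Fin 3) (Fin 3) F).det = 1) (h5 : g ^ 5 = 1)
    (h1 : g ≠ 1) (hreal : ((g⁻¹ : GL (Fin 3) F) : Matrix (Fin 3) (Fin 3) F).trace =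
      (g : Matrix (Fin 3) (Fin 3) F).trace)
    (hsq : ((g ^ 2 : GL (Fin 3) F) : Matrix (Fin 3) (Fin 3) F).trace =
      (g : Matrix (Fin 3) (Fin 3) F).trace) : (5 : F) = 0 := by
  have hch := cayley_three g hd
  rw [hreal] at hch
  rw [Units.val_pow_eq_pow_val] at hsq
  obtain ⟨t, ht⟩ : ∃ t, t = (g : Matrix (Fin 3) (Fin 3) F).trace := ⟨_, rfl⟩
  rw [← ht] at hch hsq
  obtain ⟨M, hM⟩ : ∃ M, M = (g : Matrix (Fin 3) (Fin 3) F) := ⟨_, rfl⟩
  rw [← hM] at hch hsq ht
  have hM5 : M ^ 5 = 1 := by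
    rw [hM, ← Units.val_pow_eq_pow_val, h5, Units.val_one]
  -- the trace of the square
  have hne : M ≠ 1 := fun h => h1 (Units.ext (hM ▸ h))
  have htr2 : (M ^ 2).trace = t ^ 2 - 2 * t := by
    have hadj : adjugate M = ((g⁻¹ : GL (Fin 3) F) : Matrix (Fin 3) (Fin 3) F) := by
      have : adjugate M * M = 1 := by
        rw [Matrix.adjugate_mul, hM, hd, one_smul]
      calc adjugate M = adjugate M * (M * ((g⁻¹ : GL (Fin 3) F) : Matrix (Fin 3) (Fin 3) F)) := by
            rw [hM, ← Units.val_mul, mul_inv_cancel, Units.val_one, mul_one]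
        _ = _ := by rw [← mul_assoc, this, one_mul]
    have he : (adjugate M).trace = t := by rw [hadj, hreal, ← hM, ← ht]
    rw [Matrix.trace_fin_three, Matrix.adjugate_fin_three] at he
    simp at he
    rw [ht, Matrix.trace_fin_three, Matrix.trace_fin_three]
    simp [pow_two, Matrix.mul_apply, Fin.sum_univ_three]
    rw [ht, Matrix.trace_fin_three] at he
    linear_combination (-2) * he
  rw [htr2] at hsq
  rcases mul_eq_zero.1 (show t * (t - 3) = 0 by linear_combination hsq) with h0 | h3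
  · exfalso
    rw [h0, zero_smul, zero_smul, sub_zero, zero_add] at hch
    apply hne
    calc M = M * (M ^ 5) ^ 1 := by rw [hM5, one_pow, mul_one]
      _ = (M ^ 3) ^ 2 := by rw [pow_one, ← pow_succ', ← pow_mul]
      _ = 1 := by rw [hch, one_pow]
  · by_contra h5F
    apply hne
    obtain ⟨N, hN⟩ : ∃ N, N = M - 1 := ⟨_, rfl⟩
    have hMN : M = 1 + N := by rw [hN]; abel
    have ht3 : t = 3 := by linear_combination h3
    have hN3 : N ^ 3 = 0 := by
      rw [hMN, ht3] at hch
      have e : N ^ 3 = (1 + N) ^ 3 - ((3 : F) • (1 + N) ^ 2 - (3 : F) • (1 + N) + 1) := by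
        simp only [pow_succ, pow_zero, one_mul, mul_add, add_mul, mul_one, Algebra.smul_def, map_ofNat]
        noncomm_ring
      rw [e, hch, sub_self]
    have hN5 : (5 : F) • N + (10 : F) • N ^ 2 = 0 := by
      have e : (1 + N) ^ 5 = 1 + (5 : F) • N + (10 : F) • N ^ 2 + N ^ 3 * (10 + 5 * N + N ^ 2) := by
        simp only [pow_succ, pow_zero, one_mul, mul_add, add_mul, mul_one, Algebra.smul_def, map_ofNat]
        noncomm_ring
      rw [← hMN, hM5, hN3, zero_mul, add_zero, add_assoc] at e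
      exact add_left_cancel (a := (1 : Matrix (Fin 3) (Fin 3) F)) (by rw [add_zero]; exact e.symm)
    have hN2 : N ^ 2 = 0 := by
      have e := congrArg (fun X => X * N) hN5
      simp only [add_mul, zero_mul, Matrix.smul_mul] at e
      rw [← pow_succ, ← pow_two, hN3, smul_zero, add_zero, smul_eq_zero] at e
      exact e.resolve_left h5F
    rw [hN2, smul_zero, add_zero, smul_eq_zero] at hN5
    rw [hMN, hN5.resolve_left h5F, add_zero]

variable {P : Subgroup (GL (Fin 3) F)}

theorem Res.det_eq_one (R : Res P) (x : ↥P) : ((x : GL (Fin 3) F) : Matrix (Fin 3) (Fin 3) F).det = 1 :=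
  congrArg Units.val (MonoidHom.mem_ker.1 (R.sl x.2))

/-- Conjugacy in the quotient gives equal traces when the scalars take care of themselves. -/
theorem Res.trc_zpow_of_coprime [Finite F] (R : Res P) {x : ↥P} (hx : (orderOf (qq P x)).Coprime 3)
    {a b : ℤ} (hz : zz P = ⊥ ∨ (3 : ℤ) ∣ a - b) (h : IsConj (qq P x ^ a) (qq P x ^ b)) :
    trc P (x ^ a) = trc P (x ^ b) := by
  obtain ⟨x0, z, hz', hxz, hq, ho⟩ := exists_exact_lift R.sl x hx
  have hcop : ∀ j : ℤ, (orderOf (x0 ^ j)).Coprime 3 := fun j => by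
    refine Nat.Coprime.coprime_dvd_left (orderOf_dvd_of_pow_eq_one ?_) (ho ▸ hx)
    rw [← zpow_natCast, ← _root_.zpow_mul, mul_comm, _root_.zpow_mul, zpow_natCast, pow_orderOf_eq_one,
      _root_.one_zpow]
  have hconj : IsConj (x0 ^ a) (x0 ^ b) := conj_exact R.sl (hcop a) (hcop b) (by
    rw [map_zpow, map_zpow, hq]; exact h)
  have hzab : z ^ a = z ^ b := by
    rcases hz with hbot | ⟨c, hc⟩
    · rw [hbot, Subgroup.mem_bot] at hz'
      rw [hz', _root_.one_zpow, _root_.one_zpow]
    · rw [show a = b + (3 : ℤ) * c by omega, _root_.zpow_add, _root_.zpow_mul,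
        show ((3 : ℤ)) = ((3 : ℕ) : ℤ) from rfl, zpow_natCast, zz_cube R.sl hz', _root_.one_zpow, mul_one]
  have hzc : Commute z x0 := (zz_central hz' x0).symm
  obtain ⟨g, hg⟩ := isConj_iff.1 hconj
  refine trc_eq_of_isConj (isConj_iff.2 ⟨g, ?_⟩)
  rw [hxz, hzc.mul_zpow, hzc.mul_zpow, ← hzab, ← hg, ← mul_assoc g, zz_central (Subgroup.zpow_mem _ hz' a) g]
  simp only [mul_assoc]

/-- With scalars, an element of image order three has trace zero when the Sylow three-subgroup is small. -/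
theorem Res.trc_eq_zero_of_order_three [Finite F] (R : Res P) (hbot : zz P ≠ ⊥)
    (h27 : ¬ 27 ∣ Nat.card (Quo P)) {x : ↥P} (hx : orderOf (qq P x) = 3) : trc P x = 0 := by
  classical
  haveI : Fact (Nat.Prime 3) := ⟨Nat.prime_three⟩
  obtain ⟨T, hT⟩ : ∃ T : Sylow 3 ↥P, Subgroup.zpowers x ≤ T := by
    refine IsPGroup.exists_le_sylow ?_
    rintro ⟨y, i, rfl⟩
    refine ⟨2, Subtype.ext ?_⟩
    have h3 : x ^ 3 ∈ zz P := by
      have h' := pow_orderOf_eq_one (qq P x)
      rw [hx] at h'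
      rw [← qq_eq_one, map_pow, h']
    show (x ^ i) ^ (3 ^ 2) = 1
    rw [← zpow_natCast, ← _root_.zpow_mul, mul_comm, _root_.zpow_mul, zpow_natCast,
      show (3 ^ 2 : ℕ) = 3 * 3 from rfl, pow_mul, zz_cube R.sl h3, _root_.one_zpow]
  have hxT : x ∈ (T : Subgroup ↥P) := hT (Subgroup.mem_zpowers x)
  let f : ↥(T : Subgroup ↥P) →* ↥((T : Subgroup ↥P).map (qq P)) := (qq P).subgroupMap (T : Subgroup ↥P)
  have hker : f.ker ≤ Subgroup.center ↥(T : Subgroup ↥P) := fun y hy => by
    have hyz : (y : ↥P) ∈ zz P := qq_eq_one.1 (congrArg Subtype.val (MonoidHom.mem_ker.1 hy))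
    exact Subgroup.mem_center_iff.2 fun g => Subtype.ext (zz_central hyz (g : ↥P))
  obtain ⟨i, hi⟩ := IsPGroup.iff_card.1 (T.isPGroup'.map (qq P))
  have h9 : Nat.card ((T : Subgroup ↥P).map (qq P)) ∣ 3 ^ 2 := by
    rw [hi]
    refine pow_dvd_pow 3 ?_
    by_contra hlt
    exact h27 ((pow_dvd_pow 3 (show 3 ≤ i by omega)).trans
      (hi ▸ Subgroup.card_subgroup_dvd_card _))
  have hcomm : ∀ a b : ↥((T : Subgroup ↥P).map (qq P)), a * b = b * a := by
    have hi2 : i ≤ 2 := (Nat.pow_dvd_pow_iff_le_right (by norm_num)).1 (hi ▸ h9)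
    rcases (by omega : i ≤ 1 ∨ i = 2) with h | h
    · haveI : IsCyclic ↥((T : Subgroup ↥P).map (qq P)) :=
        isCyclic_of_card_dvd_prime (p := 3) (hi ▸ (pow_dvd_pow 3 h))
      exact fun a b => (IsCyclic.commutative).is_comm.comm a b
    · exact IsPGroup.commutative_of_card_eq_prime_sq (p := 3) (h ▸ hi)
  obtain ⟨g, hgT, hg⟩ : ∃ g ∈ (T : Subgroup ↥P), g * x ≠ x * g := by
    by_contra hall
    push Not at hall
    refine hbot (zz_eq_bot_of_comm_sylow R.sl R.perfect T ?_)
    have hxc : (⟨x, hxT⟩ : ↥(T : Subgroup ↥P)) ∈ Subgroup.center ↥(T : Subgroup ↥P) :=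
      Subgroup.mem_center_iff.2 fun g => Subtype.ext (hall g g.2)
    haveI : IsCyclic (↥(T : Subgroup ↥P) ⧸ Subgroup.center ↥(T : Subgroup ↥P)) := by
      refine isCyclic_of_card_dvd_prime (p := 3) ?_
      have h := Subgroup.index_map_eq (H := Subgroup.center ↥(T : Subgroup ↥P))
        (MonoidHom.subgroupMap_surjective (qq P) (T : Subgroup ↥P)) hker
      rw [← Subgroup.index_eq_card, ← h]
      refine Nat.dvd_of_mul_dvd_mul_left (show 0 < 3 by norm_num) (dvd_trans ?_ h9)
      rw [← Subgroup.card_mul_index ((Subgroup.center ↥(T : Subgroup ↥P)).map f)]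
      refine Nat.mul_dvd_mul_right ?_ _
      have := Subgroup.orderOf_dvd_natCard _ (Subgroup.mem_map_of_mem f hxc)
      rw [← Subgroup.orderOf_coe] at this
      rw [show ((f ⟨x, hxT⟩ : ↥((T : Subgroup ↥P).map (qq P))) : Quo P) = qq P x from rfl] at this
      exact (dvd_of_eq hx.symm).trans this
    exact ⟨⟨commutative_of_cyclic_center_quotient
      (QuotientGroup.mk' (Subgroup.center ↥(T : Subgroup ↥P))) (by rw [QuotientGroup.ker_mk'])⟩⟩
  have hz : x⁻¹ * (g * x * g⁻¹) ∈ zz P := by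
    rw [← qq_eq_one]
    have hc : qq P g * qq P x = qq P x * qq P g :=
      congrArg Subtype.val (hcomm (f ⟨g, hgT⟩) (f ⟨x, hxT⟩))
    simp only [map_mul, map_inv]
    rw [hc]; group
  refine trace_eq_zero_of_conj_mul hz (fun h => hg ?_) (g := g) (by group)
  rw [inv_mul_eq_one, eq_mul_inv_iff_mul_eq] at h
  exact h.symm

end Cfsg.Agent.Mitchell.Residual
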