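/-
Class facts about `PSL₂(K)` needed for the trace relations.
Main results:
* `isConj_inv_of_not_dvd` : semisimple elements are real
* `three_sylow_cyclic` : the Sylow three-subgroups are cyclic outside characteristic three
* `real_of_neg_one_square`, `seven_order_cases`, `seven_isConj_sq`
-/
import Cfsg.Agent.Lib.Mitchell.Ident.Model
import Cfsg.Agent.Lib.PSL2.Subgroups
import Cfsg.Agent.Lib.PSL2.Overgroups

set_option autoImplicit false
set_option linter.unusedSectionVars false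

namespace Cfsg.Agent.Mitchell.Residual

open Cfsg.Agent.PSL2 (SL2 PSL2)
open Cfsg.Agent.Mitchell.Ident (U UHom U_natCast U_injective conj_U_sq U_neg U_zero U_nsmul)

variable {K : Type} [Field K] [Finite K] (p : ℕ) [Fact p.Prime] [CharP K p]

theorem isConj_inv_of_not_dvd {x : PSL2 K} (h : ¬ orderOf x ∣ p) : IsConj x x⁻¹ := by
  obtain ⟨w, -, hw⟩ := PSL2.exists_inverting p h
  exact isConj_iff.2 ⟨w, hw⟩

theorem three_sylow_cyclic (hp3 : p ≠ 3) (hp2 : p ≠ 2) (P : Sylow 3 (PSL2 K)) :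
    IsCyclic (P : Subgroup (PSL2 K)) := by
  haveI : Fact (Nat.Prime 3) := ⟨Nat.prime_three⟩
  obtain ⟨k, hk⟩ := IsPGroup.iff_card.1 P.isPGroup'
  have hno : ∀ {r : ℕ}, r.Prime → r ∣ Nat.card (P : Subgroup (PSL2 K)) → r = 3 := fun hr h => by
    rw [hk] at h
    exact (Nat.prime_dvd_prime_iff_eq hr Nat.prime_three).1 (hr.dvd_of_dvd_pow h)
  have h2 : ¬ 2 ∣ Nat.card (P : Subgroup (PSL2 K)) := fun h => by
    have := hno Nat.prime_two h; omega
  rcases PSL2.psl_dickson p (P : Subgroup (PSL2 K)) with ⟨h, -⟩ | ⟨-, hc, -⟩ | ⟨n, -, -, -, h, -, -⟩ |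
    ⟨-, h⟩ | ⟨h, -⟩ | ⟨R, m, hm, hR, h⟩
  · exact absurd (hno Fact.out h) hp3
  · exact hc
  · exact absurd (Dvd.intro n h.symm) h2
  · exfalso
    apply h2
    rcases h with ⟨⟨e⟩⟩ | ⟨⟨e⟩⟩ | ⟨⟨e⟩⟩ <;> rw [Nat.card_congr e.toEquiv] <;>
      first
      | (rw [PSL2.card_alt_four]; norm_num; done)
      | (rw [PSL2.card_perm_four]; norm_num; done)
      | (rw [PSL2.card_alt_five]; norm_num)
  · exact absurd h hp3
  · exfalso
    haveI := PSL2.charP_subfield p R
    obtain ⟨x, -, -, hx, -⟩ := PSL2.card_psl_split (F := R) p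
    have hR2 : p ∣ Nat.card R := by
      haveI : Fintype R := Fintype.ofFinite R
      obtain ⟨n, -, hc⟩ := FiniteField.card R p
      rw [Nat.card_eq_fintype_card, hc]
      exact dvd_pow_self p n.ne_zero
    rcases h with ⟨⟨e⟩⟩ | ⟨-, -, ⟨e⟩⟩ <;>
      refine hp3 (hno Fact.out ?_) <;> rw [Nat.card_congr e.toEquiv]
    · rw [hx]; exact dvd_mul_of_dvd_left hR2 _
    · rw [PSL2.card_pgl_eq]; exact dvd_mul_of_dvd_left hR2 _

/-- In `PSL₂(p)` the elements killed by `p` are conjugate to root elements. -/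
theorem exists_conj_U (hcard : Nat.card K = p) {x : PSL2 K} (hx : x ^ p = 1) :
    ∃ (g : PSL2 K) (a : K), x = g * U a * g⁻¹ := by
  rcases eq_or_ne x 1 with rfl | h1
  · exact ⟨1, 0, by simp [U_zero]⟩
  obtain ⟨c, hpc, -, hc, -⟩ := PSL2.card_psl_split (F := K) p
  have hfac : (Nat.card (PSL2 K)).factorization p = 1 := by
    have hc0 : c ≠ 0 := fun h0 => hpc (by rw [h0]; exact dvd_zero p)
    rw [hc, hcard, Nat.factorization_mul (Fact.out : p.Prime).ne_zero hc0]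
    simp [(Fact.out : p.Prime).factorization_self, Nat.factorization_eq_zero_of_not_dvd hpc]
  have hZ : Nat.card (Subgroup.zpowers x) = p := by
    rw [Nat.card_zpowers, orderOf_eq_prime hx h1]
  have hU : Nat.card (UHom (K := K)).range = p := by
    rw [← Nat.card_congr (MonoidHom.ofInjective (f := UHom (K := K)) fun a b h =>
      Multiplicative.toAdd.injective (U_injective h)).toEquiv, Nat.card_congr Multiplicative.toAdd, hcard]
  let T : Sylow p (PSL2 K) := Sylow.ofCard (Subgroup.zpowers x) (by rw [hfac, pow_one, hZ])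
  let T' : Sylow p (PSL2 K) := Sylow.ofCard (UHom (K := K)).range (by rw [hfac, pow_one, hU])
  obtain ⟨g, hg⟩ := MulAction.exists_smul_eq (PSL2 K) T' T
  have hxT : x ∈ (T : Subgroup (PSL2 K)) := Subgroup.mem_zpowers x
  rw [← hg, Sylow.coe_subgroup_smul] at hxT
  obtain ⟨y, ⟨a, rfl⟩, hy⟩ := hxT
  exact ⟨g, a.toAdd, hy.symm⟩

/-- The elements killed by the characteristic are conjugate to root elements. -/
theorem exists_conj_U_char {x : PSL2 K} (hx : x ^ p = 1) :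
    ∃ (g : PSL2 K) (a : K), x = g * U a * g⁻¹ := by
  obtain ⟨γ, hγ⟩ : ∃ γ : ℕ, Nat.card K = p ^ γ := by
    haveI : Fintype K := Fintype.ofFinite K
    obtain ⟨n, -, hc⟩ := FiniteField.card K p
    exact ⟨n, by rw [Nat.card_eq_fintype_card, hc]⟩
  obtain ⟨c, hpc, hc0, hc, -⟩ := PSL2.card_psl_split (F := K) p
  have hfac : (Nat.card (PSL2 K)).factorization p = γ := by
    rw [hc, hγ, Nat.factorization_mul (pow_ne_zero _ (Fact.out : p.Prime).ne_zero) hc0]
    simp [(Fact.out : p.Prime).factorization_self, Nat.factorization_eq_zero_of_not_dvd hpc]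
  have hU : Nat.card (UHom (K := K)).range = Nat.card K := by
    rw [← Nat.card_congr (MonoidHom.ofInjective (f := UHom (K := K)) fun a b h =>
      Multiplicative.toAdd.injective (U_injective h)).toEquiv, Nat.card_congr Multiplicative.toAdd]
  let T' : Sylow p (PSL2 K) := Sylow.ofCard (UHom (K := K)).range (by rw [hfac, hU, hγ])
  obtain ⟨T, hT⟩ : ∃ T : Sylow p (PSL2 K), Subgroup.zpowers x ≤ T := by
    refine IsPGroup.exists_le_sylow ?_
    rintro ⟨y, i, rfl⟩
    refine ⟨1, Subtype.ext ?_⟩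
    show (x ^ i) ^ (p ^ 1) = 1
    rw [pow_one, ← zpow_natCast, ← _root_.zpow_mul, mul_comm, _root_.zpow_mul, zpow_natCast, hx, _root_.one_zpow]
  obtain ⟨g, hg⟩ := MulAction.exists_smul_eq (PSL2 K) T' T
  have hxT : x ∈ (T : Subgroup (PSL2 K)) := hT (Subgroup.mem_zpowers x)
  rw [← hg, Sylow.coe_subgroup_smul] at hxT
  obtain ⟨y, ⟨a, rfl⟩, hy⟩ := hxT
  exact ⟨g, a.toAdd, hy.symm⟩

include p in
/-- All elements are real when minus one is a square. -/
theorem real_of_neg_one_square (hs : IsSquare (-1 : K)) (x : PSL2 K) : IsConj x x⁻¹ := by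
  by_cases h : orderOf x ∣ p
  · obtain ⟨g, a, rfl⟩ := exists_conj_U_char p (orderOf_dvd_iff_pow_eq_one.1 h)
    obtain ⟨w, hw⟩ := conj_U_sq (k := (-1 : K)) (neg_ne_zero.2 one_ne_zero) hs
    refine isConj_iff.2 ⟨g * w * g⁻¹, ?_⟩
    have h3 : w * U a * w⁻¹ = (U a)⁻¹ := by rw [hw, neg_one_mul, U_neg]
    calc g * w * g⁻¹ * (g * U a * g⁻¹) * (g * w * g⁻¹)⁻¹ = g * (w * U a * w⁻¹) * g⁻¹ := by group
      _ = (g * U a * g⁻¹)⁻¹ := by rw [h3]; group
  · exact isConj_inv_of_not_dvd p h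

section Seven

variable [CharP K 7]

theorem seven_order_cases (h7 : Nat.card K = 7) (x : PSL2 K) :
    orderOf x ∣ 7 ∨ orderOf x ∣ 3 ∨ orderOf x ∣ 4 := by
  haveI : Fact (Nat.Prime 7) := ⟨by norm_num⟩
  have h : orderOf x ∈ Set.range (orderOf : PSL2 K → ℕ) := ⟨x, rfl⟩
  rw [PSL2.range_psl_orderOf 7, Set.mem_setOf_eq, h7] at h
  norm_num at h
  exact h

theorem seven_isConj_sq (h7 : Nat.card K = 7) {x : PSL2 K} (hx : x ^ 7 = 1) : IsConj (x ^ 2) x := by
  haveI : Fact (Nat.Prime 7) := ⟨by norm_num⟩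
  obtain ⟨g, a, rfl⟩ := exists_conj_U 7 h7 hx
  have h2 : (2 : K) ≠ 0 := fun h => by
    have := (CharP.cast_eq_zero_iff K 7 2).1 (by exact_mod_cast h)
    norm_num at this
  obtain ⟨w, hw⟩ := conj_U_sq h2 ⟨3, by
    have h7' : ((7 : ℕ) : K) = 0 := CharP.cast_eq_zero K 7
    push_cast at h7'
    linear_combination -h7'⟩
  symm
  refine isConj_iff.2 ⟨g * w * g⁻¹, ?_⟩
  have h3 : w * U a * w⁻¹ = U a ^ 2 := by rw [hw, ← U_nsmul, nsmul_eq_mul, Nat.cast_ofNat]
  calc g * w * g⁻¹ * (g * U a * g⁻¹) * (g * w * g⁻¹)⁻¹ = g * (w * U a * w⁻¹) * g⁻¹ := by group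
    _ = (g * U a * g⁻¹) ^ 2 := by rw [h3, conj_pow]

end Seven

end Cfsg.Agent.Mitchell.Residual
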