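/-
Residual cores whose quotient is `PSL₂(r)`, `r` odd, or `A₇`: which fields and forms occur.
Main results:
* `card_cases` : `r` is `5`, `7`, `9` or a power of the characteristic
* `Res.case_seven`, `Res.case_nine`, `Res.case_altSeven`, `Res.case_real`
* `Res.small_cases` : the combined answer
-/
import Cfsg.Agent.Lib.Mitchell.Residual.Lift
import Cfsg.Agent.Lib.Mitchell.Residual.PSLTwo
import Cfsg.Agent.Lib.Mitchell.Residual.AltSeven
import Cfsg.Agent.Lib.Mitchell.Ident.Psl
import Cfsg.Agent.S0254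
import Cfsg.Agent.S0255

set_option autoImplicit false
set_option linter.unusedSectionVars false
set_option linter.style.haveILetI false

namespace Cfsg.Agent.Mitchell.Residual

open Matrix
open Cfsg.Agent.PSL2 (SL2 PSL2)

universe u

variable {F : Type u} [Field F] {P : Subgroup (GL (Fin 3) F)}

/-- Some nondegenerate quadratic form is fixed. -/
def HasQuad (P : Subgroup (GL (Fin 3) F)) : Prop :=
  ∃ Q : (Fin 3 → F) → F, Cfsg.Geo.IsNondegenerateQuadraticForm Q ∧
    Cfsg.Geo.FixesQuadForm (Cfsg.Geo.matrixSet P) Q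

/-- Some nondegenerate unitary form is fixed. -/
def HasUnit (P : Subgroup (GL (Fin 3) F)) : Prop :=
  ∃ (σ : F ≃+* F) (f : (Fin 3 → F) → (Fin 3 → F) → F), Cfsg.Geo.IsUnitaryForm σ f ∧
    Cfsg.Geo.FixesForm (Cfsg.Geo.matrixSet P) f

theorem card_cases [Fintype F] (p : ℕ) [Fact p.Prime] [CharP F p]
    (hsl : P ≤ Cfsg.Geo.specialLinear (Fin 3) F)
    {K : Type} [Field K] [Fintype K] (hK : Odd (Fintype.card K)) (hK3 : 3 < Fintype.card K)
    (e : Quo P ≃* PSL2 K) :
    CharP K p ∨ (p ∣ 5 → False) ∧ Fintype.card K = 5 ∨ (p ∣ 7 → False) ∧ Fintype.card K = 7 ∨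
      (p ∣ 3 → False) ∧ Fintype.card K = 9 := by
  classical
  obtain ⟨r₀, hr₀⟩ := CharP.exists K
  obtain ⟨⟨γ, hγ0⟩, hr₀p, hcard⟩ := FiniteField.card K r₀
  simp only [PNat.mk_coe] at hcard
  haveI : Fact r₀.Prime := ⟨hr₀p⟩
  by_cases hrp : r₀ = p
  · exact Or.inl (hrp ▸ hr₀)
  have hr2 : r₀ ≠ 2 := fun h => by
    subst h
    rw [hcard, Nat.odd_pow_iff hγ0.ne'] at hK
    exact absurd hK (by decide)
  have hpr : ¬ p ∣ r₀ := fun h => hrp ((Nat.prime_dvd_prime_iff_eq Fact.out hr₀p).1 h).symm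
  have key : r₀ = 3 ∧ γ = 2 ∨ (γ = 1 ∧ (r₀ = 5 ∨ r₀ = 7)) := by
    by_cases h3 : r₀ = 3
    · subst h3
      have h3F : ((3 : ℕ) : F) ≠ 0 := Ident.natCast_ne_zero p hpr
      have h9 := Ident.card_le_nine e hsl hK (by exact_mod_cast h3F)
        (by exact_mod_cast CharP.cast_eq_zero K 3)
      rw [hcard] at h9 hK3
      left
      refine ⟨rfl, ?_⟩
      have h1 : γ ≤ 2 := (Nat.pow_le_pow_iff_right (a := 3) (by norm_num)).1 (by simpa using h9)
      have h2 : 1 < γ := (Nat.pow_lt_pow_iff_right (a := 3) (by norm_num)).1 (by simpa using hK3)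
      omega
    have h5 : 5 ≤ r₀ := by
      have := hr₀p.two_le
      by_contra h
      interval_cases r₀ <;> first | contradiction | norm_num at hr₀p
    have hdvd : ∀ {c : ℕ}, (r₀ : ℤ) ∣ (c : ℤ) → r₀ ∣ c := fun h => Int.natCast_dvd_natCast.1 h
    by_cases hev : Even γ
    · exfalso
      have h2 := Ident.dvd_of_isSquare p r₀ hrp 2
        (fun h => hr2 ((Nat.prime_dvd_prime_iff_eq hr₀p Nat.prime_two).1 h))
        (Ident.isSquare_natCast_of_even r₀ γ hr2 hcard hev 2) e hsl
      norm_num at h2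
      have h7 : r₀ = 7 := by
        rcases h2 with h | h
        · exact absurd ((Nat.prime_dvd_prime_iff_eq hr₀p Nat.prime_three).1 (hdvd h)) h3
        · exact (Nat.prime_dvd_prime_iff_eq hr₀p (by norm_num)).1 (hdvd h)
      subst h7
      have h3' := Ident.dvd_of_isSquare p 7 hrp 3 (by norm_num)
        (Ident.isSquare_natCast_of_even 7 γ hr2 hcard hev 3) e hsl
      norm_num at h3'
    · have h4 := Ident.dvd_of_isSquare p r₀ hrp 4
        (fun h => hr2 ((Nat.prime_dvd_prime_iff_eq hr₀p Nat.prime_two).1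
          (hr₀p.dvd_of_dvd_pow (show r₀ ∣ 2 ^ 2 from h))))
        ⟨2, by norm_num⟩ e hsl
      norm_num at h4
      have h57 : r₀ = 5 ∨ r₀ = 7 := by
        rcases h4 with h | h
        · rcases hr₀p.dvd_mul.1 (show r₀ ∣ 3 * 5 from hdvd h) with h' | h'
          · exact absurd ((Nat.prime_dvd_prime_iff_eq hr₀p Nat.prime_three).1 h') h3
          · exact Or.inl ((Nat.prime_dvd_prime_iff_eq hr₀p Nat.prime_five).1 h')
        · rcases hr₀p.dvd_mul.1 (show r₀ ∣ 9 * 7 from hdvd h) with h' | h'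
          · exact absurd ((Nat.prime_dvd_prime_iff_eq hr₀p Nat.prime_three).1
              (hr₀p.dvd_of_dvd_pow (show r₀ ∣ 3 ^ 2 from h'))) h3
          · exact Or.inr ((Nat.prime_dvd_prime_iff_eq hr₀p (by norm_num)).1 h')
      have hn : (r₀ : F) ≠ 0 := Ident.natCast_ne_zero p hpr
      have hle := Ident.card_le_sq e hsl hn (CharP.cast_eq_zero K r₀)
        (Ident.comm_W e hsl ((Nat.coprime_primes hr₀p Nat.prime_three).2 h3) (CharP.cast_eq_zero K r₀))
      rw [hcard] at hle
      have hγ2 := (Nat.pow_le_pow_iff_right hr₀p.two_le).1 hle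
      refine Or.inr ⟨?_, h57⟩
      interval_cases γ
      · rfl
      · exact absurd (by decide) hev
  rcases key with ⟨rfl, rfl⟩ | ⟨rfl, rfl | rfl⟩
  · exact Or.inr (Or.inr (Or.inr ⟨hpr, by simpa using hcard⟩))
  · exact Or.inr (Or.inl ⟨hpr, by simpa using hcard⟩)
  · exact Or.inr (Or.inr (Or.inl ⟨hpr, by simpa using hcard⟩))

theorem isConj_of_equiv {A B : Type*} [Group A] [Group B] (e : A ≃* B) {x y : A}
    (h : IsConj (e x) (e y)) : IsConj x y := by
  simpa using e.symm.toMonoidHom.map_isConj h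

/-- With a cyclic Sylow three-subgroup of the quotient there are no scalars. -/
theorem Res.zz_eq_bot_of_cyclic [Finite F] (R : Res P) {S : Type*} [Group S] [Finite S] (e : Quo P ≃* S)
    (h : ∀ T : Sylow 3 S, IsCyclic (T : Subgroup S)) : zz P = ⊥ := by
  haveI : Fact (Nat.Prime 3) := ⟨Nat.prime_three⟩
  obtain ⟨T⟩ : Nonempty (Sylow 3 ↥P) := inferInstance
  obtain ⟨Q, hQ⟩ := IsPGroup.exists_le_sylow (T.isPGroup'.map (e.toMonoidHom.comp (qq P)))
  haveI := h Q
  refine zz_eq_bot_of_comm_sylow R.sl R.perfect T ⟨⟨?_⟩⟩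
  refine commutative_of_cyclic_center_quotient
    ((Subgroup.inclusion hQ).comp ((e.toMonoidHom.comp (qq P)).subgroupMap (T : Subgroup ↥P))) ?_
  intro y hy
  have h1 : e (qq P (y : ↥P)) = 1 := congrArg Subtype.val (MonoidHom.mem_ker.1 hy)
  have hyz : (y : ↥P) ∈ zz P := qq_eq_one.1 (e.injective (h1.trans e.map_one.symm))
  exact Subgroup.mem_center_iff.2 fun g => Subtype.ext (zz_central hyz (g : ↥P))

theorem Res.zz_eq_bot_char_three (R : Res P) [CharP F 3] : zz P = ⊥ := by
  rw [eq_bot_iff]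
  intro z hz
  obtain ⟨c, hc⟩ := (Cfsg.Geo.mem_scalars_iff _).1 (Subgroup.mem_subgroupOf.1 hz)
  have h := zz_cube R.sl hz
  have h3 : (c : F) ^ 3 = 1 := by
    have h' := congrArg (fun w : ↥P => ((w : GL (Fin 3) F) : Matrix (Fin 3) (Fin 3) F) 0 0) h
    simp only [SubgroupClass.coe_pow, Units.val_pow_eq_pow_val, hc, smul_pow, one_pow] at h'
    simpa using h'
  haveI : Fact (Nat.Prime 3) := ⟨Nat.prime_three⟩
  have h1 : (c : F) = 1 := by
    have : ((c : F) - 1) ^ 3 = 0 := by rw [sub_pow_char, h3, one_pow, sub_self]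
    exact sub_eq_zero.1 ((pow_eq_zero_iff (by norm_num)).1 this)
  rw [Subgroup.mem_bot]
  exact Subtype.ext (Units.ext (by rw [hc, h1, one_smul]; rfl))

variable [Fintype F] {p α : ℕ} [Fact p.Prime] [CharP F p]

/-- All semisimple classes real and no scalars: self-dual. -/
theorem Res.case_real (R : Res P) (hF : Fintype.card F = p ^ α) (hbot : zz P = ⊥)
    (hreal : ∀ x : Quo P, (orderOf x).Coprime p → IsConj x x⁻¹) : HasQuad P := by
  have hinj : Function.Injective (qq P) := by
    rw [← MonoidHom.ker_eq_bot_iff, QuotientGroup.ker_mk', hbot]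
  have hrel : TraceRel P p 0 (-1) := traceRel_of_conj p fun x hx => by
    have h := hreal (qq P x) (by rwa [orderOf_injective _ hinj])
    rw [pow_zero, pow_one, _root_.zpow_neg_one]
    obtain ⟨g, hg⟩ := isConj_iff.1 h
    obtain ⟨g, rfl⟩ := QuotientGroup.mk'_surjective _ g
    exact isConj_iff.2 ⟨g, hinj (by rw [map_mul, map_mul, map_inv, map_inv]; exact hg)⟩
  rcases R.twist_cases hF hrel with h | ⟨-, hk, -⟩
  · exact h
  · exact absurd (dvd_zero α) hk

theorem alpha_pos (hF : Fintype.card F = p ^ α) : 0 < α := by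
  rcases Nat.eq_zero_or_pos α with h0 | h0
  · have := Fintype.one_lt_card (α := F); rw [hF, h0, pow_zero] at this; omega
  · exact h0

theorem eq_two_of_dvd {α : ℕ} (h : α ∣ 2 * 1) (hn : ¬ α ∣ 1) : α = 2 := by
  rcases (Nat.dvd_prime Nat.prime_two).1 (by simpa using h) with h | h
  · exact absurd (h ▸ dvd_rfl) hn
  · exact h

/-- The group with seven. -/
theorem Res.case_seven (R : Res P) (hF : Fintype.card F = p ^ α) (hQ : ¬ HasQuad P)
    {K : Type} [Field K] [Finite K] [CharP K 7] (h7 : Nat.card K = 7) (hp7 : p ≠ 7) (e : Quo P ≃* PSL2 K) :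
    (α = 1 ∧ (p % 7 = 1 ∨ p % 7 = 2 ∨ p % 7 = 4)) ∨
      (α = 2 ∧ HasUnit P ∧ (p % 7 = 3 ∨ p % 7 = 5 ∨ p % 7 = 6)) := by
  haveI : Fact (Nat.Prime 7) := ⟨by norm_num⟩
  have hbot : zz P = ⊥ := R.zz_eq_bot_of_cyclic e (three_sylow_cyclic 7 (by norm_num) (by norm_num))
  have hinj : Function.Injective (e.toMonoidHom.comp (qq P)) := by
    refine e.injective.comp ?_
    rw [← MonoidHom.ker_eq_bot_iff, QuotientGroup.ker_mk', hbot]
  have hpd : ¬ 7 ∣ p := fun h => hp7 ((Nat.prime_dvd_prime_iff_eq Fact.out Fact.out).1 h).symm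
  have hp0 : p % 7 ≠ 0 := fun h => hpd (Nat.dvd_of_mod_eq_zero h)
  have main : ∀ ε : Bool, (ε = true → (p % 7 = 1 ∨ p % 7 = 2 ∨ p % 7 = 4)) →
      (ε = false → (p % 7 = 3 ∨ p % 7 = 5 ∨ p % 7 = 6)) →
      TraceRel P p 1 (if ε then 1 else -1) := by
    intro ε ht hf
    refine traceRel_of_conj p fun x hx => ?_
    rw [pow_one]
    obtain ⟨v, hv⟩ : ∃ v, v = e (qq P x) := ⟨_, rfl⟩
    have ho : orderOf v = orderOf x := hv ▸ orderOf_injective _ hinj x
    have key : IsConj (v ^ p) (v ^ (if ε then (1 : ℤ) else -1)) := by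
      have hreal : ¬ orderOf v ∣ 7 → IsConj v v⁻¹ := isConj_inv_of_not_dvd 7
      rcases seven_order_cases h7 v with h | h | h
      · have hv7 : v ^ 7 = 1 := orderOf_dvd_iff_pow_eq_one.1 h
        have h2 : IsConj (v ^ 2) v := seven_isConj_sq h7 hv7
        have h4 : IsConj (v ^ 4) v := by
          have := seven_isConj_sq h7 (x := v ^ 2) (by rw [← pow_mul, mul_comm, pow_mul, hv7, one_pow])
          rw [← pow_mul] at this
          exact this.trans h2
        rw [pow_eq_pow_mod p hv7]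
        cases ε
        · have hinv : ∀ {a : ℕ}, IsConj (v ^ a) v → IsConj ((v ^ a)⁻¹) v⁻¹ := fun {a} hh => by
            obtain ⟨g, hg⟩ := isConj_iff.1 hh
            exact isConj_iff.2 ⟨g, by rw [← conj_inv, hg]⟩
          have e7 : ∀ a b : ℕ, a + b = 7 → v ^ a = (v ^ b)⁻¹ := fun a b hab =>
            eq_inv_of_mul_eq_one_left (by rw [← pow_add, hab, hv7])
          simp only [Bool.false_eq_true, if_false, _root_.zpow_neg_one]
          rcases hf rfl with h' | h' | h' <;> rw [h']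
          · rw [e7 3 4 rfl]; exact hinv h4
          · rw [e7 5 2 rfl]; exact hinv h2
          · rw [e7 6 1 rfl]; exact hinv (by rw [pow_one])
        · simp only [if_true, zpow_one]
          rcases ht rfl with h' | h' | h' <;> rw [h']
          · rw [pow_one]
          · exact h2
          · exact h4
      all_goals
        by_cases h1 : v = 1
        · simp [h1]
        have hr : IsConj v v⁻¹ := hreal fun hd => h1 <| orderOf_eq_one_iff.1
          (Nat.eq_one_of_dvd_coprimes (by norm_num) h hd)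
        have hcop : (orderOf v).Coprime p := ho ▸ hx
        have hn1 : orderOf v ≠ 1 := fun h' => h1 (orderOf_eq_one_iff.1 h')
        have hcases : p % orderOf v = 1 ∨ p % orderOf v + 1 = orderOf v := by
          have hle := Nat.le_of_dvd (by norm_num) h
          have hlt := Nat.mod_lt p (orderOf_pos v)
          have h0 : p % orderOf v ≠ 0 := fun h0 => hn1
            (Nat.eq_one_of_dvd_coprimes hcop dvd_rfl (Nat.dvd_of_mod_eq_zero h0))
          have h42 : orderOf v = 4 → p % orderOf v ≠ 2 := fun h4' h2' => by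
            have h2p : 2 ∣ p := by rw [h4'] at h2'; omega
            rw [h4'] at hcop
            exact absurd (Nat.eq_one_of_dvd_coprimes hcop (by norm_num) h2p) (by norm_num)
          omega
        have hpv : v ^ p = v ∨ v ^ p = v⁻¹ := by
          rcases hcases with h' | h'
          · exact Or.inl (by rw [← pow_mod_orderOf, h', pow_one])
          · refine Or.inr (eq_inv_of_mul_eq_one_left ?_)
            rw [← pow_mod_orderOf, ← pow_succ, h', pow_orderOf_eq_one]
        rcases hpv with hp' | hp' <;> rw [hp'] <;> cases ε <;> simp only [Bool.false_eq_true, if_false,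
          if_true, _root_.zpow_neg_one, zpow_one] <;> first | exact IsConj.refl _ | exact hr | exact hr.symm
    obtain ⟨g, hg⟩ := isConj_iff.1 key
    obtain ⟨g, rfl⟩ := e.surjective g
    obtain ⟨g, rfl⟩ := QuotientGroup.mk'_surjective _ g
    refine isConj_iff.2 ⟨g, hinj ?_⟩
    cases ε <;> simpa [map_zpow, hv] using hg
  rcases (by omega : (p % 7 = 1 ∨ p % 7 = 2 ∨ p % 7 = 4) ∨ (p % 7 = 3 ∨ p % 7 = 5 ∨ p % 7 = 6)) with h | h
  · have := R.dvd_of_fix hF (main true (fun _ => h) (by simp))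
    exact Or.inl ⟨Nat.eq_one_of_dvd_one this, h⟩
  · rcases R.twist_cases hF (main false (by simp) (fun _ => h)) with hq | ⟨h2, h1, hu⟩
    · exact absurd hq hQ
    · exact Or.inr ⟨eq_two_of_dvd h2 h1, hu, h⟩

end Cfsg.Agent.Mitchell.Residual
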