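/-
Residual cores in dimension three: lifting from the quotient modulo scalars and the Frobenius identity for traces.
Main results:
* `trace_pow_char` : `tr (M ^ p) = (tr M) ^ p` in characteristic `p`
* `conj_exact` : conjugacy modulo scalars is conjugacy for orders prime to three
* `exists_exact_lift`, `trace_eq_zero_of_conj_mul`, `Z_eq_bot_of_comm_sylow`
-/
import Cfsg.Agent.Lib.Mitchell.Defs
import Cfsg.Agent.Lib.PrimeDim.Forms
import Cfsg.Agent.Lib.PrimeDim.Clifford
import Cfsg.Agent.Lib.Transfer.AbelianHall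

set_option autoImplicit false
set_option linter.unusedSectionVars false

namespace Cfsg.Agent.Mitchell.Residual

open Matrix Polynomial

universe u

variable {F : Type u} [Field F]

/-- The trace of a `p`-th power in characteristic `p`. -/
theorem trace_pow_char (p : ℕ) [Fact p.Prime] [CharP F p] {n : Type*} [Fintype n] [DecidableEq n]
    [Nonempty n] (M : Matrix n n F) : (M ^ p).trace = M.trace ^ p := by
  have h : M.charpoly ^ p = Polynomial.expand F p (M ^ p).charpoly := by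
    unfold Matrix.charpoly
    rw [AlgHom.map_det, ← coe_detMonoidHom, ← (detMonoidHom : Matrix n n F[X] →* F[X]).map_pow]
    apply congr_arg det
    refine matPolyEquiv.injective ?_
    rw [map_pow, matPolyEquiv_charmatrix, sub_pow_char_of_commute, ← Polynomial.C_pow]
    · exact (id (matPolyEquiv_eq_X_pow_sub_C p M).symm :)
    · exact (Polynomial.C M).commute_X
  haveI : ExpChar F p := ExpChar.prime Fact.out
  rw [← Polynomial.map_frobenius_expand] at h
  rw [Polynomial.map_expand] at h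
  have h' := Polynomial.expand_injective (Fact.out : p.Prime).pos h
  rw [Matrix.trace_eq_neg_charpoly_coeff, Matrix.trace_eq_neg_charpoly_coeff, ← h', Polynomial.coeff_map,
    frobenius_def]
  rcases (Fact.out : p.Prime).eq_two_or_odd' with h2 | h2
  · subst h2
    rw [CharTwo.neg_eq, CharTwo.neg_eq]
  · rw [h2.neg_pow]

theorem trace_pow_char_pow (p : ℕ) [Fact p.Prime] [CharP F p] {n : Type*} [Fintype n] [DecidableEq n]
    [Nonempty n] (M : Matrix n n F) (a : ℕ) : (M ^ p ^ a).trace = M.trace ^ p ^ a := by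
  induction a with
  | zero => simp
  | succ a ih => rw [pow_succ, pow_mul, trace_pow_char p, ih, ← pow_mul]

variable (P : Subgroup (GL (Fin 3) F))

/-- The scalars of `P`. -/
abbrev zz : Subgroup ↥P := (Cfsg.Geo.scalars (Fin 3) F).subgroupOf P

/-- `P` modulo scalars. -/
abbrev Quo : Type u := ↥P ⧸ zz P

/-- The projection. -/
abbrev qq : ↥P →* Quo P := QuotientGroup.mk' (zz P)

/-- The trace on `P`. -/
def trc (x : ↥P) : F := ((x : GL (Fin 3) F) : Matrix (Fin 3) (Fin 3) F).trace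

variable {P}

theorem qq_eq_one {x : ↥P} : qq P x = 1 ↔ x ∈ zz P := QuotientGroup.eq_one_iff x

theorem zz_central {z : ↥P} (hz : z ∈ zz P) (x : ↥P) : x * z = z * x :=
  Subtype.ext (PrimeDim.scalars_central (Subgroup.mem_subgroupOf.1 hz) (x : GL (Fin 3) F))

theorem zz_le_center : zz P ≤ Subgroup.center ↥P := fun _ hz =>
  Subgroup.mem_center_iff.2 (zz_central hz)

theorem trc_conj (g x : ↥P) : trc P (g * x * g⁻¹) = trc P x := by
  exact Matrix.trace_units_conj (g : GL (Fin 3) F) _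

theorem trc_eq_of_isConj {x y : ↥P} (h : IsConj x y) : trc P x = trc P y := by
  obtain ⟨g, rfl⟩ := isConj_iff.1 h
  rw [trc_conj]

theorem zz_cube (hsl : P ≤ Cfsg.Geo.specialLinear (Fin 3) F) {z : ↥P} (hz : z ∈ zz P) : z ^ 3 = 1 := by
  obtain ⟨c, hc⟩ := (Cfsg.Geo.mem_scalars_iff _).1 (Subgroup.mem_subgroupOf.1 hz)
  have hd : ((z : GL (Fin 3) F) : Matrix (Fin 3) (Fin 3) F).det = 1 :=
    congrArg Units.val (MonoidHom.mem_ker.1 (hsl z.2))
  rw [hc, Matrix.det_smul, Matrix.det_one, mul_one, Fintype.card_fin] at hd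
  refine Subtype.ext (Units.ext ?_)
  rw [SubgroupClass.coe_pow, Units.val_pow_eq_pow_val, hc, _root_.smul_pow, one_pow, hd, one_smul]
  rfl

/-- A scalar of `P` killed by a number prime to three is trivial. -/
theorem zz_eq_one_of_pow (hsl : P ≤ Cfsg.Geo.specialLinear (Fin 3) F) {z : ↥P} (hz : z ∈ zz P) {n : ℕ}
    (hn : n.Coprime 3) (h : z ^ n = 1) : z = 1 := by
  rw [← orderOf_eq_one_iff]
  exact Nat.eq_one_of_dvd_coprimes hn (orderOf_dvd_of_pow_eq_one h)
    (orderOf_dvd_of_pow_eq_one (zz_cube hsl hz))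

/-- **Conjugacy modulo scalars is conjugacy for orders prime to three.** -/
theorem conj_exact (hsl : P ≤ Cfsg.Geo.specialLinear (Fin 3) F) {x y : ↥P}
    (hx : (orderOf x).Coprime 3) (hy : (orderOf y).Coprime 3) (h : IsConj (qq P x) (qq P y)) :
    IsConj x y := by
  obtain ⟨g', hg'⟩ := isConj_iff.1 h
  obtain ⟨g, rfl⟩ := QuotientGroup.mk'_surjective _ g'
  rw [← map_inv, ← map_mul, ← map_mul] at hg'
  obtain ⟨z, hz, hzy⟩ : ∃ z ∈ zz P, g * x * g⁻¹ = z * y := by
    refine ⟨g * x * g⁻¹ * y⁻¹, ?_, by group⟩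
    rw [← qq_eq_one, map_mul (qq P) (g * x * g⁻¹) y⁻¹, hg', map_inv, mul_inv_cancel]
  set n := orderOf x * orderOf y with hn
  have h1 : (g * x * g⁻¹) ^ n = 1 := by
    rw [conj_pow, hn, pow_mul, pow_orderOf_eq_one, one_pow, mul_one, mul_inv_cancel]
  have h2 : y ^ n = 1 := by rw [hn, mul_comm, pow_mul, pow_orderOf_eq_one, one_pow]
  have h3 : Commute z y := (zz_central hz y).symm
  rw [hzy, h3.mul_pow, h2, mul_one] at h1
  have := zz_eq_one_of_pow hsl hz (Nat.Coprime.mul_left hx hy) h1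
  rw [this, one_mul] at hzy
  exact isConj_iff.2 ⟨g, hzy⟩

/-- An element whose image has order prime to three is a scalar times an exact lift. -/
theorem exists_exact_lift (hsl : P ≤ Cfsg.Geo.specialLinear (Fin 3) F) (x : ↥P)
    (hx : (orderOf (qq P x)).Coprime 3) :
    ∃ x0 : ↥P, ∃ z ∈ zz P, x = z * x0 ∧ qq P x0 = qq P x ∧ orderOf x0 = orderOf (qq P x) := by
  set n := orderOf (qq P x) with hn
  have hxn : x ^ n ∈ zz P := by rw [← qq_eq_one, map_pow, hn, pow_orderOf_eq_one]
  have hnu : IsUnit (n : ZMod 3) := (ZMod.isUnit_iff_coprime n 3).2 hx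
  obtain ⟨j, hj⟩ : ∃ j : ℕ, (1 + n * j) % 3 = 0 := by
    have h3 : n % 3 = 1 ∨ n % 3 = 2 := by
      have : n % 3 ≠ 0 := fun h0 => by
        have := Nat.eq_one_of_dvd_coprimes hx (Nat.dvd_of_mod_eq_zero h0) dvd_rfl
        omega
      omega
    rcases h3 with h3 | h3
    · exact ⟨2, by rw [Nat.add_mod, Nat.mul_mod, h3]⟩
    · exact ⟨1, by rw [Nat.add_mod, Nat.mul_mod, h3]⟩
  obtain ⟨m, hm⟩ : ∃ m, 1 + n * j = 3 * m := ⟨(1 + n * j) / 3, by omega⟩
  set w := (x ^ n) ^ j with hw
  have hwz : w ∈ zz P := Subgroup.pow_mem _ hxn j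
  refine ⟨w * x, w⁻¹, inv_mem hwz, by group, by rw [map_mul, qq_eq_one.2 hwz, one_mul], ?_⟩
  refine Nat.dvd_antisymm (orderOf_dvd_of_pow_eq_one ?_) ?_
  · rw [(show Commute w x from (zz_central hwz x).symm).mul_pow, hw, ← pow_mul, ← pow_mul, ← pow_add,
      show n * (j * n) + n = n * (3 * m) by rw [← hm]; ring,
      pow_mul, pow_mul, zz_cube hsl hxn, one_pow]
  · rw [hn]
    have h := orderOf_map_dvd (qq P) (w * x)
    rwa [map_mul, qq_eq_one.2 hwz, one_mul] at h

/-- An element conjugate to a non-trivial scalar multiple of itself has trace zero. -/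
theorem trace_eq_zero_of_conj_mul {g x z : ↥P} (hz : z ∈ zz P) (hz1 : z ≠ 1)
    (h : g * x * g⁻¹ = x * z) : trc P x = 0 := by
  have h1 := trc_conj g x
  rw [h] at h1
  obtain ⟨c, hc⟩ := (Cfsg.Geo.mem_scalars_iff _).1 (Subgroup.mem_subgroupOf.1 hz)
  have hc1 : (c : F) ≠ 1 := fun h1 => hz1 (Subtype.ext (Units.ext (by rw [hc, h1, one_smul]; rfl)))
  have h2 : trc P (x * z) = (c : F) * trc P x := by
    unfold trc
    rw [Subgroup.coe_mul, Units.val_mul, hc, Matrix.mul_smul, mul_one, Matrix.trace_smul, smul_eq_mul]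
  rw [h2] at h1
  exact (mul_eq_zero.1 (show ((c : F) - 1) * trc P x = 0 by linear_combination h1)).resolve_left
    (sub_ne_zero.2 hc1)

/-- A commutative Sylow three-subgroup forces trivial scalars. -/
theorem zz_eq_bot_of_comm_sylow [Finite F] (hsl : P ≤ Cfsg.Geo.specialLinear (Fin 3) F)
    (hperf : ⁅P, P⁆ = P) (T : Sylow 3 ↥P) (hT : IsMulCommutative (T : Subgroup ↥P)) : zz P = ⊥ := by
  haveI : Fact (Nat.Prime 3) := ⟨Nat.prime_three⟩
  have hcomm : commutator ↥P = ⊤ := by
    rw [eq_top_iff]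
    intro x _
    have hx : (x : GL (Fin 3) F) ∈ (commutator ↥P).map P.subtype := by
      rw [Subgroup.map_subtype_commutator, hperf]; exact x.2
    obtain ⟨y, hy, hyx⟩ := hx
    rwa [← Subtype.ext (a1 := y) (a2 := x) hyx]
  have hbot := Transfer.inf_commutator_inf_center_eq_bot (T : Subgroup ↥P) hT T.card_coprime_index
  rw [hcomm, inf_top_eq] at hbot
  rw [eq_bot_iff, ← hbot]
  refine le_inf ?_ zz_le_center
  intro z hz
  obtain ⟨T', hT'⟩ : ∃ T' : Sylow 3 ↥P, Subgroup.zpowers z ≤ T' := by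
    refine IsPGroup.exists_le_sylow ?_
    rintro ⟨y, i, rfl⟩
    exact ⟨1, Subtype.ext (by
      rw [pow_one]
      exact zz_cube hsl (Subgroup.zpow_mem _ hz i))⟩
  obtain ⟨g, hg⟩ := MulAction.exists_smul_eq ↥P T' T
  have hzT := hT' (Subgroup.mem_zpowers z)
  rw [← hg, Sylow.coe_subgroup_smul]
  exact ⟨z, hzT, by
    show g * z * g⁻¹ = z
    rw [zz_central hz g, mul_inv_cancel_right]⟩

end Cfsg.Agent.Mitchell.Residual
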