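/-
Residual cores whose quotient is `A₆` or `A₇`, and the combined answer.
Main results:
* `Res.case_nine`, `Res.case_altSeven`
* `Res.small_cases`
-/
import Cfsg.Agent.Lib.Mitchell.Residual.Cases

set_option autoImplicit false
set_option linter.unusedSectionVars false
set_option linter.style.haveILetI false

namespace Cfsg.Agent.Mitchell.Residual

open Matrix
open Cfsg.Agent.PSL2 (SL2 PSL2)

universe u

variable {F : Type u} [Field F] {P : Subgroup (GL (Fin 3) F)}

/-- A non-trivial automorphism of a field of order `p²` is the Frobenius map. -/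
theorem frob_of_sq [Fintype F] (p : ℕ) [Fact p.Prime] (hF : Fintype.card F = p ^ 2)
    (σ : F ≃+* F) (hne : σ ≠ RingEquiv.refl F) (hinv : ∀ a, σ (σ a) = a) (a : F) : σ a = a ^ p := by
  haveI : CharP F p := charP_of_card_eq_prime_pow (f := 2) hF
  obtain ⟨K, hKdef⟩ : ∃ K, K = RingHom.eqLocusField (σ : F →+* F) (RingHom.id F) := ⟨_, rfl⟩
  have hK : ∀ b, b ∈ K ↔ σ b = b := fun b => by rw [hKdef]; rfl
  have hpow : ∀ c ∈ K, c ^ p = c := by
    haveI : Fintype K := Fintype.ofFinite K
    have hcard := Module.card_eq_pow_finrank (K := K) (V := F)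
    rw [hF] at hcard
    obtain ⟨j, hj2, hj⟩ := (Nat.dvd_prime_pow (Fact.out : p.Prime)).1
      (show Fintype.card K ∣ p ^ 2 by rw [hcard]; exact dvd_pow_self _ Module.finrank_pos.ne')
    have hj0 : j ≠ 0 := fun h0 => by
      have := Fintype.one_lt_card (α := K); rw [hj, h0, pow_zero] at this; omega
    have hjne : j ≠ 2 := fun h2 => hne (RingEquiv.ext fun b => by
      have hb : b ∈ K := by
        obtain ⟨c, hc⟩ := ((Fintype.bijective_iff_injective_and_card (fun c : K => (c : F))).2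
          ⟨Subtype.val_injective, by rw [hj, h2, hF]⟩).2 b
        exact hc ▸ c.2
      exact (hK b).1 hb)
    intro c hc
    have h1 := congrArg Subtype.val (FiniteField.pow_card (⟨c, hc⟩ : K))
    rwa [hj, show j = 1 by omega, pow_one, SubmonoidClass.coe_pow] at h1
  have hs : σ a + a ∈ K := (hK _).2 (by rw [map_add, hinv, add_comm])
  have hm : σ a * a ∈ K := (hK _).2 (by rw [map_mul, hinv, mul_comm])
  have hrec : a ^ 2 - (σ a + a) * a + σ a * a = 0 := by ring
  have h := congrArg (frobenius F p) hrec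
  simp only [map_add, map_sub, map_mul, map_pow, map_zero, frobenius_def] at h
  have e1 : (σ a) ^ p + a ^ p = σ a + a := by rw [← add_pow_char, hpow _ hs]
  have e2 : (σ a) ^ p * a ^ p = σ a * a := by rw [← mul_pow, hpow _ hm]
  rcases mul_eq_zero.1 (show (a ^ p - a) * (a ^ p - σ a) = 0 by linear_combination (a ^ p) * e1 - e2) with h' | h'
  · have ha : a ^ p = a := sub_eq_zero.1 h'
    have : a ∈ K := by
      by_contra hnot
      -- the prime field is fixed
      obtain ⟨n, hn⟩ : ∃ n : ZMod p, ZMod.castHom (dvd_refl p) F n = a :=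
        exists_castHom_eq p ha
      refine hnot ((hK a).2 ?_)
      rw [← hn]
      exact congrArg (fun f : ZMod p →+* F => f n)
        (RingHom.ext_zmod ((σ : F →+* F).comp (ZMod.castHom (dvd_refl p) F)) _)
    rw [ha, (hK a).1 this]
  · exact (sub_eq_zero.1 h').symm
where
  exists_castHom_eq {F : Type u} [Field F] (p : ℕ) [Fact p.Prime] [CharP F p] {a : F} (ha : a ^ p = a) :
      ∃ n : ZMod p, ZMod.castHom (dvd_refl p) F n = a := by
    classical
    by_contra hcon
    push Not at hcon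
    let f := ZMod.castHom (dvd_refl p) F
    have hinj : Function.Injective f := f.injective
    let q : Polynomial F := Polynomial.X ^ p - Polynomial.X
    have hq : q ≠ 0 := FiniteField.X_pow_card_sub_X_ne_zero F (Fact.out : p.Prime).one_lt
    have hdeg : q.natDegree = p := FiniteField.X_pow_card_sub_X_natDegree_eq F (Fact.out : p.Prime).one_lt
    have hsub : insert a (Finset.univ.image f) ⊆ q.roots.toFinset := by
      intro b hb
      rw [Multiset.mem_toFinset, Polynomial.mem_roots hq, Polynomial.IsRoot.def]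
      simp only [q, Polynomial.eval_sub, Polynomial.eval_pow, Polynomial.eval_X, sub_eq_zero]
      rcases Finset.mem_insert.1 hb with rfl | hb
      · exact ha
      · obtain ⟨n, -, rfl⟩ := Finset.mem_image.1 hb
        rw [← map_pow, ZMod.pow_card]
    have h := (Finset.card_le_card hsub).trans ((Multiset.toFinset_card_le _).trans (Polynomial.card_roots' q))
    rw [Finset.card_insert_of_notMem (by simpa [f, eq_comm] using hcon), Finset.card_image_of_injective _ hinj,
      Finset.card_univ, ZMod.card, hdeg] at h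
    omega

/-- The trace relation given by a unitary form. -/
theorem trc_of_unitary [Finite F] {σ : F ≃+* F} {f : (Fin 3 → F) → (Fin 3 → F) → F}
    (hf : Cfsg.Geo.IsUnitaryForm σ f) (hfix : Cfsg.Geo.FixesForm (Cfsg.Geo.matrixSet P) f) (x : ↥P) :
    trc P x⁻¹ = σ (trc P x) := by
  obtain ⟨G, hG⟩ : ∃ G, f = PrimeDim.sesq (σ : F →+* F) G := ⟨_, PrimeDim.unitaryForm_eq_sesq hf⟩
  have hdet : G.det ≠ 0 := PrimeDim.det_ne_zero_of_nondegenerate (σ : F →+* F) (hG ▸ hf.nondegenerate)
  have hinv : ((x : GL (Fin 3) F) : Matrix (Fin 3) (Fin 3) F)ᵀ * G *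
      ((x : GL (Fin 3) F) : Matrix (Fin 3) (Fin 3) F).map σ = G := by
    refine PrimeDim.sesq_ext (σ := (σ : F →+* F)) fun u v => ?_
    have h := hfix _ ⟨(x : GL (Fin 3) F), x.2, rfl⟩ u v
    rw [hG, PrimeDim.sesq_mulVec] at h
    exact h
  obtain ⟨M, hM⟩ : ∃ M, M = ((x : GL (Fin 3) F) : Matrix (Fin 3) (Fin 3) F) := ⟨_, rfl⟩
  rw [← hM] at hinv
  obtain ⟨N, hN⟩ : ∃ N, N = (((x⁻¹ : ↥P) : GL (Fin 3) F) : Matrix (Fin 3) (Fin 3) F) := ⟨_, rfl⟩
  have hMN : M * N = 1 := by
    rw [hM, hN, ← Units.val_mul, ← Subgroup.coe_mul, mul_inv_cancel]; rfl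
  have h1 : M.map σ = G⁻¹ * (Nᵀ * G) := by
    have hu : IsUnit G.det := isUnit_iff_ne_zero.2 hdet
    have h3 : Nᵀ * G = G * M.map σ := by
      calc Nᵀ * G = Nᵀ * (Mᵀ * G * M.map σ) := by rw [hinv]
        _ = G * M.map σ := by
          rw [← mul_assoc, ← mul_assoc, ← Matrix.transpose_mul, hMN, Matrix.transpose_one, one_mul]
    rw [h3, ← mul_assoc, Matrix.nonsing_inv_mul _ hu, one_mul]
  have h2 : σ M.trace = N.trace := by
    have e : σ M.trace = (M.map σ).trace := by simp [Matrix.trace, map_sum]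
    rw [e, h1, Matrix.trace_mul_comm, mul_assoc, Matrix.mul_nonsing_inv _ (isUnit_iff_ne_zero.2 hdet),
      mul_one, Matrix.trace_transpose]
  unfold trc
  rw [← hN, ← hM]
  exact h2.symm

variable [Fintype F] {p α : ℕ} [Fact p.Prime] [CharP F p]

/-- A real element of order five of the quotient separates the two traces, outside characteristic five. -/
theorem Res.five_traces (R : Res P) (hp5 : p ≠ 5) {v : Quo P} (hv : orderOf v = 5) (hr : IsConj v v⁻¹) :
    ∃ x : ↥P, qq P x = v ∧ orderOf x = 5 ∧ trc P x⁻¹ = trc P x ∧ trc P (x ^ 2) ≠ trc P x ∧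
      ∀ j : ℕ, (j % 5 = 2 ∨ j % 5 = 3) → trc P (x ^ j) = trc P (x ^ 2) := by
  obtain ⟨y, rfl⟩ := QuotientGroup.mk'_surjective _ v
  obtain ⟨x, -, -, -, hq, ho⟩ := exists_exact_lift R.sl y (by rw [hv]; norm_num)
  have hx5e : x ^ 5 = 1 := orderOf_dvd_iff_pow_eq_one.1 (dvd_of_eq (ho.trans hv))
  have hcop : ∀ j : ℤ, (orderOf (x ^ j)).Coprime 3 := fun j => by
    refine Nat.Coprime.coprime_dvd_left (orderOf_dvd_of_pow_eq_one ?_) (show Nat.Coprime 5 3 by norm_num)
    rw [← zpow_natCast, ← _root_.zpow_mul, mul_comm, _root_.zpow_mul, zpow_natCast,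
      hx5e, _root_.one_zpow]
  have hx5 : orderOf x = 5 := ho.trans hv
  have hreal : IsConj x x⁻¹ := by
    have h := conj_exact R.sl (x := x ^ (1 : ℤ)) (y := x ^ (-1 : ℤ)) (hcop 1) (hcop (-1))
      (by rw [zpow_one, _root_.zpow_neg_one, map_inv, hq]; exact hr)
    rwa [zpow_one, _root_.zpow_neg_one] at h
  have h1 : trc P x⁻¹ = trc P x := (trc_eq_of_isConj hreal).symm
  refine ⟨x, hq, hx5, h1, fun h2 => ?_, fun j hj => ?_⟩
  · have h5 := trace_five (g := (x : GL (Fin 3) F)) (R.det_eq_one x)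
      (by rw [← SubgroupClass.coe_pow, ← hx5, pow_orderOf_eq_one]; rfl)
      (fun h => by
        rw [show x = 1 from Subtype.ext h, orderOf_one] at hx5
        norm_num at hx5)
      h1 (by simpa [trc] using h2)
    exact hp5 (by
      have := (CharP.cast_eq_zero_iff F p 5).1 (by exact_mod_cast h5)
      exact (Nat.prime_dvd_prime_iff_eq Fact.out Nat.prime_five).1 this)
  · rw [← pow_mod_orderOf, hx5]
    rcases hj with h | h <;> rw [h]
    obtain ⟨g, hg⟩ := isConj_iff.1 hreal
    refine (trc_eq_of_isConj (isConj_iff.2 ⟨g, ?_⟩)).symm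
    rw [← conj_pow, hg, inv_pow, inv_eq_iff_mul_eq_one, ← pow_add]
    exact hx5e

theorem trc_pow_char (x : ↥P) (k : ℕ) : trc P x ^ p ^ k = trc P (x ^ p ^ k) := by
  unfold trc
  rw [SubgroupClass.coe_pow, Units.val_pow_eq_pow_val, trace_pow_char_pow p]

/-- The alternating group of degree six. -/
theorem Res.case_nine (R : Res P) (hF : Fintype.card F = p ^ α) (hQ : ¬ HasQuad P)
    {K : Type} [Field K] [Finite K] [CharP K 3] (h9 : Nat.card K = 9) (hp3 : p ≠ 3) (e : Quo P ≃* PSL2 K) :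
    (α = 1 ∧ (p % 15 = 1 ∨ p % 15 = 4)) ∨ (α = 2 ∧ (p % 5 = 2 ∨ p % 5 = 3) ∧ ¬ HasUnit P) ∨
      (α = 2 ∧ HasUnit P ∧ (p % 15 = 11 ∨ p % 15 = 14 ∨ p = 5)) := by
  haveI : Fact (Nat.Prime 3) := ⟨Nat.prime_three⟩
  haveI : Fintype K := Fintype.ofFinite K
  have h9' : Fintype.card K = 9 := by rw [← Nat.card_eq_fintype_card, h9]
  have hreal : ∀ v : Quo P, IsConj v v⁻¹ := fun v => isConj_of_equiv e (by
    rw [map_inv]
    exact real_of_neg_one_square 3 (FiniteField.isSquare_neg_one_iff.2 (by rw [h9']; norm_num)) (e v))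
  have hbot : zz P ≠ ⊥ := fun h => hQ (R.case_real hF h fun v _ => hreal v)
  have h27 : ¬ 27 ∣ Nat.card (Quo P) := by
    obtain ⟨c, hc3, -, hc, hc2⟩ := PSL2.card_psl_split (F := K) 3
    rw [Nat.card_congr e.toEquiv, hc, h9]
    rw [h9] at hc2
    norm_num at hc2
    omega
  have hcases : ∀ v : Quo P, orderOf v = 3 ∨ orderOf v ∣ 4 ∨ orderOf v ∣ 5 := by
    intro v
    have h : orderOf (e v) ∈ Set.range (orderOf : PSL2 K → ℕ) := ⟨e v, rfl⟩
    rw [PSL2.range_psl_orderOf 3, Set.mem_setOf_eq, h9, e.orderOf_eq] at h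
    norm_num at h
    rcases h with h | h | h
    · rcases (Nat.dvd_prime Nat.prime_three).1 h with h | h
      · exact Or.inr (Or.inl (by rw [h]; norm_num))
      · exact Or.inl h
    · exact Or.inr (Or.inl h)
    · exact Or.inr (Or.inr h)
  have hne3 : ¬ 3 ∣ p := fun h => hp3 ((Nat.prime_dvd_prime_iff_eq Nat.prime_three Fact.out).1 h).symm
  have hrel : ∀ (k : ℕ) (ε : ℤ), (ε = 1 ∨ ε = -1) → (3 : ℤ) ∣ (p : ℤ) ^ k - ε →
      (p = 5 ∨ p ^ k % 5 = 1 ∨ p ^ k % 5 = 4) → TraceRel P p k ε := by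
    intro k ε hε h3 h5
    refine traceRel_of_regular p fun x hx => ?_
    have hco : (orderOf (qq P x)).Coprime p := Nat.Coprime.coprime_dvd_left (orderOf_map_dvd _ x) hx
    rw [trc_pow_char]
    have hpk : ¬ 3 ∣ p ^ k := fun h => hne3 (Nat.prime_three.dvd_of_dvd_pow h)
    rcases hcases (qq P x) with h | h
    · have h0 : ∀ j : ℤ, ¬ (3 : ℤ) ∣ j → trc P (x ^ j) = 0 := fun j hj => by
        refine R.trc_eq_zero_of_order_three hbot h27 (orderOf_eq_prime ?_ ?_)
        · rw [map_zpow, ← zpow_natCast, ← _root_.zpow_mul, mul_comm, _root_.zpow_mul, zpow_natCast,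
            orderOf_dvd_iff_pow_eq_one.1 (dvd_of_eq h), _root_.one_zpow]
        · rw [map_zpow]
          intro h1
          have h2 := orderOf_dvd_iff_zpow_eq_one.2 h1
          rw [h] at h2
          exact hj (by exact_mod_cast h2)
      rw [← zpow_natCast, h0 _ (by exact_mod_cast hpk), h0 _ (by rcases hε with rfl | rfl <;> norm_num)]
    · obtain ⟨n, hn⟩ : ∃ n, n = orderOf (qq P x) := ⟨_, rfl⟩
      have hnpos : 0 < n := hn ▸ orderOf_pos (qq P x)
      rw [← hn] at h hco
      have hn3 : n.Coprime 3 := by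
        rcases h with h | h <;> exact Nat.Coprime.coprime_dvd_left h (by norm_num)
      rw [← zpow_natCast]
      refine R.trc_zpow_of_coprime (hn ▸ hn3) (Or.inr (by push_cast; exact h3)) ?_
      rw [zpow_natCast]
      have hpm : qq P x ^ p ^ k = qq P x ∨ qq P x ^ p ^ k = (qq P x)⁻¹ := by
        have hm : p ^ k % n = 1 % n ∨ p ^ k % n + 1 = n := by
          rcases eq_or_ne n 1 with rfl | hn1
          · left; simp [Nat.mod_one]
          rcases h with h | h
          · have hn24 : n = 2 ∨ n = 4 := by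
              have := Nat.le_of_dvd (by norm_num) h
              interval_cases n <;> simp_all
            have h2p : ¬ 2 ∣ p ^ k := fun h2 => by
              have h2n : 2 ∣ n := by rcases hn24 with rfl | rfl <;> norm_num
              exact absurd (Nat.eq_one_of_dvd_coprimes hco h2n (Nat.prime_two.dvd_of_dvd_pow h2))
                (by norm_num)
            rcases hn24 with rfl | rfl <;> omega
          · have hn5 : n = 5 := (Nat.dvd_prime Nat.prime_five).1 h |>.resolve_left hn1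
            subst hn5
            rcases h5 with rfl | h5 | h5
            · exact absurd (Nat.eq_one_of_dvd_coprimes hco dvd_rfl dvd_rfl) (by norm_num)
            · left; omega
            · right; omega
        rcases hm with hm | hm
        · exact Or.inl (by rw [← pow_mod_orderOf, ← hn, hm, hn, pow_mod_orderOf, pow_one])
        · refine Or.inr (eq_inv_of_mul_eq_one_left ?_)
          rw [← pow_mod_orderOf, ← hn, ← pow_succ, hm, hn, pow_orderOf_eq_one]
      rcases hpm with hp' | hp' <;> rw [hp'] <;> rcases hε with rfl | rfl <;>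
        simp only [zpow_one, _root_.zpow_neg_one] <;>
        first | exact IsConj.refl _ | exact hreal _ | exact (hreal _).symm
  by_cases h23 : p % 5 = 2 ∨ p % 5 = 3
  · refine Or.inr (Or.inl ?_)
    have h5sq : p ^ 2 % 5 = 4 := by
      rw [Nat.pow_mod]; rcases h23 with h | h <;> rw [h]
    have h3sq : (3 : ℤ) ∣ (p : ℤ) ^ 2 - 1 := by
      have : p ^ 2 % 3 = 1 := by
        rw [Nat.pow_mod]
        rcases (show p % 3 = 1 ∨ p % 3 = 2 by omega) with h | h <;> rw [h]
      have h2 := Nat.div_add_mod (p ^ 2) 3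
      exact ⟨((p ^ 2 / 3 : ℕ) : ℤ), by rw [← Nat.cast_pow]; omega⟩
    have hα : α ∣ 2 := R.dvd_of_fix hF (hrel 2 1 (Or.inl rfl) h3sq (Or.inr (Or.inr h5sq)))
    have hp5 : p ≠ 5 := by rintro rfl; omega
    obtain ⟨v, hv⟩ : ∃ v : Quo P, orderOf v = 5 := by
      obtain ⟨x, hx⟩ := PSL2.exists_psl_orderOf 3 (F := K) (m := 5) (by rw [h9]; norm_num)
      exact ⟨e.symm x, by rw [e.symm.orderOf_eq, hx]⟩
    obtain ⟨x, -, -, hinv, hne, hj⟩ := R.five_traces hp5 hv (hreal v)
    have hxp : trc P x ^ p = trc P (x ^ 2) := by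
      have := trc_pow_char (p := p) x 1
      rw [pow_one] at this
      rw [this, hj p h23]
    have hα2 : α = 2 := by
      rcases (Nat.dvd_prime Nat.prime_two).1 hα with h | h
      · exfalso
        refine hne ?_
        rw [← hxp, ← pow_one p, ← h, ← hF, FiniteField.pow_card]
      · exact h
    refine ⟨hα2, h23, ?_⟩
    rintro ⟨σ, f, hf, hfix⟩
    refine hne ?_
    rw [← hxp, ← frob_of_sq p (hα2 ▸ hF) σ hf.ne_refl hf.involutive, ← trc_of_unitary hf hfix x, hinv]
  · have h5 : p = 5 ∨ p ^ 1 % 5 = 1 ∨ p ^ 1 % 5 = 4 := by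
      rw [pow_one]
      by_cases h0 : p % 5 = 0
      · exact Or.inl ((Nat.prime_dvd_prime_iff_eq Nat.prime_five Fact.out).1 (Nat.dvd_of_mod_eq_zero h0)).symm
      · omega
    by_cases h31 : p % 3 = 1
    · have h := Nat.eq_one_of_dvd_one (R.dvd_of_fix hF (hrel 1 1 (Or.inl rfl) (by rw [pow_one]; omega) h5))
      have hne5 : p ≠ 5 := by rintro rfl; omega
      rw [pow_one] at h5
      exact Or.inl ⟨h, by omega⟩
    · rcases R.twist_cases hF (hrel 1 (-1) (Or.inr rfl) (by rw [pow_one]; omega) h5) with hq | ⟨h2, h1, hu⟩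
      · exact absurd hq hQ
      · refine Or.inr (Or.inr ⟨eq_two_of_dvd h2 h1, hu, ?_⟩)
        rw [pow_one] at h5
        omega

/-- The alternating group of degree seven. -/
theorem Res.case_altSeven (R : Res P) (hF : Fintype.card F = p ^ α) (hQ : ¬ HasQuad P)
    (e : Quo P ≃* alternatingGroup (Fin 7)) : p = 5 ∧ α = 2 ∧ HasUnit P := by
  have hp5 : p = 5 := by
    by_contra hne
    obtain ⟨x5, w5, h5, h5', h5w⟩ := Ident.alt_five
    haveI : Fact (Nat.Prime 5) := ⟨Nat.prime_five⟩
    have hv : orderOf (e.symm x5) = 5 := by rw [e.symm.orderOf_eq, orderOf_eq_prime h5 h5']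
    have hsq : IsConj (e.symm x5) (e.symm x5 ^ 2) :=
      isConj_iff.2 ⟨e.symm w5, by rw [← map_inv, ← map_mul, ← map_mul, h5w, map_pow]⟩
    have hr : IsConj (e.symm x5) (e.symm x5)⁻¹ := by
      obtain ⟨g, hg⟩ := isConj_iff.1 hsq
      refine hsq.trans (isConj_iff.2 ⟨g, ?_⟩)
      rw [← conj_pow, hg, eq_inv_iff_mul_eq_one, ← pow_mul, ← pow_succ]
      exact (orderOf_dvd_iff_pow_eq_one (n := 2 * 2 + 1)).1 (by rw [hv])
    obtain ⟨x, hq, hx5, -, hne2, -⟩ := R.five_traces hne hv hr
    have hc : ∀ j : ℕ, (orderOf (x ^ j)).Coprime 3 := fun j =>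
      Nat.Coprime.coprime_dvd_left ((orderOf_pow_dvd j).trans (dvd_of_eq hx5)) (show Nat.Coprime 5 3 by norm_num)
    refine hne2 (trc_eq_of_isConj (conj_exact R.sl (x := x ^ 2) (y := x) (hc 2) (by simpa using hc 1) ?_))
    rw [map_pow, hq]
    exact hsq.symm
  subst hp5
  haveI : Fact (Nat.Prime 7) := ⟨by norm_num⟩
  have h27 : ¬ 27 ∣ Nat.card (Quo P) := by
    rw [Nat.card_congr e.toEquiv, CoverSixSeven.card_alt_seven]; norm_num
  have hconj : ∀ v : Quo P, orderOf v ∣ 4 → IsConj v v⁻¹ := fun v hv => by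
    rcases eq_or_ne v 1 with rfl | h1
    · rw [inv_one]
    refine isConj_of_equiv e ?_
    rw [map_inv]
    refine alt_real_of_even_order ?_
    rw [e.orderOf_eq]
    rcases (Nat.dvd_prime_pow Nat.prime_two).1 (show orderOf v ∣ 2 ^ 2 from hv) with ⟨j, -, hj⟩
    rw [hj]
    exact dvd_pow_self 2 fun h0 => h1 (orderOf_eq_one_iff.1 (by rw [hj, h0, pow_zero]))
  have hrel : TraceRel P 5 1 (-1) := by
    refine traceRel_of_regular 5 fun x hx => ?_
    rw [trc_pow_char, pow_one]
    have hco : (orderOf (e (qq P x))).Coprime 5 := by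
      rw [e.orderOf_eq]; exact Nat.Coprime.coprime_dvd_left (orderOf_map_dvd _ x) hx
    have h := alt_order_cases hco
    rw [e.orderOf_eq] at h
    by_cases h36 : orderOf (qq P x) = 3 ∨ orderOf (qq P x) = 6
    · have hx6 : x ^ 6 = 1 := by
        have h6 : x ^ 6 ∈ zz P := by
          rw [← qq_eq_one, map_pow]
          refine orderOf_dvd_iff_pow_eq_one.1 ?_
          rcases h36 with h' | h' <;> rw [h'] <;> norm_num
        by_cases hbot : zz P = ⊥
        · rwa [hbot, Subgroup.mem_bot] at h6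
        -- an element of image order three has cube one
        have hcube : ∀ y : ↥P, orderOf (qq P y) = 3 → y ^ 3 = 1 := fun y hy => by
          have h1 := R.trc_eq_zero_of_order_three hbot h27 hy
          have h2 := R.trc_eq_zero_of_order_three hbot h27 (x := y⁻¹) (by rw [map_inv, orderOf_inv, hy])
          unfold trc at h1 h2
          rw [Subgroup.coe_inv] at h2
          refine Subtype.ext (Units.ext ?_)
          rw [SubgroupClass.coe_pow, Units.val_pow_eq_pow_val, cayley_three _ (R.det_eq_one y), h1, h2,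
            zero_smul, zero_smul, sub_zero, zero_add]
          rfl
        rcases h36 with h' | h'
        · rw [show 6 = 3 * 2 from rfl, pow_mul, hcube x h', one_pow]
        · rw [show 6 = 2 * 3 from rfl, pow_mul, hcube]
          rw [map_pow, orderOf_pow, h']
          rfl
      rw [_root_.zpow_neg_one, eq_inv_of_mul_eq_one_left (show x ^ 5 * x = 1 by rw [← pow_succ, hx6])]
    · obtain ⟨n, hn⟩ : ∃ n, n = orderOf (qq P x) := ⟨_, rfl⟩
      have hnpos : 0 < n := hn ▸ orderOf_pos (qq P x)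
      rw [← hn] at h h36
      have hn' : n ∣ 7 ∨ n ∣ 4 := by
        rcases h with h | h | h
        · exact Or.inl h
        · exact Or.inr h
        · rcases (by
            have := Nat.le_of_dvd (by norm_num) h
            interval_cases n <;> first | exact Or.inl rfl | exact Or.inr rfl | (norm_num at h; done) | omega : n = 1 ∨ n = 2) with rfl | rfl <;> norm_num
      rw [← zpow_natCast]
      have hn3 : n.Coprime 3 := by
        rcases hn' with h' | h'
        · exact Nat.Coprime.coprime_dvd_left h' (by norm_num)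
        · exact Nat.Coprime.coprime_dvd_left h' (by norm_num)
      refine R.trc_zpow_of_coprime (hn ▸ hn3) (Or.inr (by norm_num)) ?_
      rw [zpow_natCast, _root_.zpow_neg_one]
      rcases hn' with h' | h'
      · have hv7 : qq P x ^ 7 = 1 := orderOf_dvd_iff_pow_eq_one.1 (hn ▸ h')
        have h2 : IsConj (qq P x ^ 2) (qq P x) := isConj_of_equiv e (by
          rw [map_pow]; exact alt_isConj_sq (by rw [← map_pow, hv7, map_one]))
        rw [eq_inv_of_mul_eq_one_left (show qq P x ^ 5 * qq P x ^ 2 = 1 by rw [← pow_add, hv7])]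
        obtain ⟨g, hg⟩ := isConj_iff.1 h2
        exact isConj_iff.2 ⟨g, by rw [← conj_inv, hg]⟩
      · have h4 : qq P x ^ 4 = 1 := orderOf_dvd_iff_pow_eq_one.1 (hn ▸ h')
        rw [pow_succ, h4, one_mul]
        exact hconj _ (hn ▸ h')
  rcases R.twist_cases hF hrel with hq | ⟨h2, h1, hu⟩
  · exact absurd hq hQ
  · exact ⟨rfl, eq_two_of_dvd h2 h1, hu⟩

/-- **The possible cores with quotient `PSL₂(r)`, `r` odd, or `A₇`.** -/
theorem Res.small_cases (R : Res P) (hF : Fintype.card F = p ^ α) (hQ : ¬ HasQuad P)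
    (h : (∃ (K : Type) (_ : Field K) (_ : Fintype K), Odd (Fintype.card K) ∧ 3 < Fintype.card K ∧
        Nonempty (Quo P ≃* Matrix.ProjectiveSpecialLinearGroup (Fin 2) K)) ∨
      Nonempty (Quo P ≃* alternatingGroup (Fin 7))) :
    (Nonempty (Quo P ≃* Matrix.ProjectiveSpecialLinearGroup (Fin 3) (ZMod 2)) ∧
      ((α = 1 ∧ (p % 7 = 1 ∨ p % 7 = 2 ∨ p % 7 = 4)) ∨
        (α = 2 ∧ HasUnit P ∧ (p % 7 = 3 ∨ p % 7 = 5 ∨ p % 7 = 6)))) ∨
    (Nonempty (Quo P ≃* alternatingGroup (Fin 6)) ∧ p ≠ 3 ∧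
      ((α = 1 ∧ (p % 15 = 1 ∨ p % 15 = 4)) ∨ (α = 2 ∧ (p % 5 = 2 ∨ p % 5 = 3) ∧ ¬ HasUnit P) ∨
        (α = 2 ∧ HasUnit P ∧ (p % 15 = 11 ∨ p % 15 = 14 ∨ p = 5)))) ∨
    (Nonempty (Quo P ≃* alternatingGroup (Fin 7)) ∧ p = 5 ∧ α = 2 ∧ HasUnit P) := by
  rcases h with ⟨K, _, _, hK, hK3, ⟨e⟩⟩ | h
  swap
  · obtain ⟨e⟩ := h
    exact Or.inr (Or.inr ⟨⟨e⟩, R.case_altSeven hF hQ e⟩)
  rcases card_cases p R.sl hK hK3 e with hc | ⟨hp, h5⟩ | ⟨hp, h7⟩ | ⟨hp, h9⟩
  · -- defining characteristic
    exfalso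
    haveI := hc
    refine hQ (R.case_real hF ?_ fun v hv => ?_)
    · rcases eq_or_ne p 3 with rfl | hp3
      · exact R.zz_eq_bot_char_three
      · refine R.zz_eq_bot_of_cyclic e (three_sylow_cyclic p hp3 ?_)
        rintro rfl
        obtain ⟨n, -, hn⟩ := FiniteField.card K 2
        rw [hn, Nat.odd_pow_iff n.ne_zero] at hK
        exact absurd hK (by decide)
    · rcases eq_or_ne v 1 with rfl | h1
      · rw [inv_one]
      refine isConj_of_equiv e ?_
      rw [map_inv]
      refine isConj_inv_of_not_dvd p fun hd => h1 ?_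
      rw [e.orderOf_eq] at hd
      exact orderOf_eq_one_iff.1 (Nat.eq_one_of_dvd_coprimes hv dvd_rfl hd)
  · exfalso
    haveI : Fact (Nat.Prime 5) := ⟨Nat.prime_five⟩
    haveI : CharP K 5 := charP_of_card_eq_prime h5
    refine hQ (R.case_real hF (R.zz_eq_bot_of_cyclic e (three_sylow_cyclic 5 (by norm_num) (by norm_num)))
      fun v _ => isConj_of_equiv e ?_)
    rw [map_inv]
    exact real_of_neg_one_square 5 (FiniteField.isSquare_neg_one_iff.2 (by rw [h5]; norm_num)) (e v)
  · haveI : Fact (Nat.Prime 7) := ⟨by norm_num⟩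
    haveI : CharP K 7 := charP_of_card_eq_prime h7
    obtain ⟨e'⟩ := Cfsg.Agent.S0255.result (F := K) (K := ZMod 2) h7 (ZMod.card 2)
    exact Or.inl ⟨⟨e.trans e'⟩, R.case_seven hF hQ (by rw [Nat.card_eq_fintype_card, h7])
      (fun h => hp (h ▸ dvd_rfl)) e⟩
  · haveI : Fact (Nat.Prime 3) := ⟨Nat.prime_three⟩
    haveI : CharP K 3 := charP_of_card_eq_prime_pow (f := 2) (by rw [h9]; rfl)
    obtain ⟨e'⟩ := Cfsg.Agent.S0254.result h9
    have hp3 : p ≠ 3 := fun h => hp (h ▸ dvd_rfl)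
    exact Or.inr (Or.inl ⟨⟨e.trans e'⟩, hp3, R.case_nine hF hQ (by rw [Nat.card_eq_fintype_card, h9]) hp3 e⟩)

end Cfsg.Agent.Mitchell.Residual
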