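/-
A residual core containing transvections is a classical group, so it is not maximal.
Main results:
* `Res.irred`, `Res.closure_tvSet_eq`
* `Res.isSLOrSU_cases` : the transvection theorem leaves `SL₃(F)` or `SU₃` over the whole field
* `not_isMaximal_of_classical` : neither lies in a maximal subgroup
-/
import Cfsg.Agent.Lib.Mitchell.Residual.Exceptional
import Cfsg.Agent.Lib.Mitchell.Almost.Elation

set_option autoImplicit false
set_option linter.unusedSectionVars false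
set_option linter.style.haveILetI false

namespace Cfsg.Agent.Mitchell.Residual

open Matrix Cfsg.Agent.SL3Max Cfsg.Agent.Transvect

universe u

variable {F : Type u} [Field F] {P : Subgroup (GL (Fin 3) F)}

theorem Res.irred (R : Res P) : Irred P := fun W hW => R.absIrred.1 W (by
  rintro _ ⟨g, hg, rfl⟩
  refine (PrimeDim.mapsTo_iff_mulVec _ _).2 fun w hw => ?_
  have h := hW g hg w hw
  rwa [app_apply] at h)

theorem Res.closure_tvSet_eq (R : Res P) (hex : ¬ ElationFree P) :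
    P = Subgroup.closure (tvSet P) := by
  classical
  obtain ⟨N, hN⟩ : ∃ N, N = Subgroup.closure (tvSet P) := ⟨_, rfl⟩
  rw [← hN]
  have hle : N ≤ P := hN ▸ (Subgroup.closure_le P).2 fun x hx => hx.1
  refine le_antisymm ?_ hle
  obtain ⟨M, hM⟩ : ∃ M, M = (N.subgroupOf P).map (qq P) := ⟨_, rfl⟩
  have hnor : M.Normal := by
    haveI : (N.subgroupOf P).Normal := ⟨fun x hx g => by
      rw [Subgroup.mem_subgroupOf] at hx ⊢
      rw [hN] at hx ⊢
      exact Almost.closure_tvSet_conj (fun a ha => P.mul_mem (P.mul_mem g.2 ha) (P.inv_mem g.2)) hx⟩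
    rw [hM]
    exact Subgroup.Normal.map inferInstance _ (QuotientGroup.mk'_surjective _)
  haveI := R.simple
  rcases hnor.eq_bot_or_eq_top with h | h
  · exfalso
    obtain ⟨c, hc0, φ, hφ0, hφc, hφ⟩ : ∃ c, Cen P c := by
      by_contra hno
      exact hex fun c hc => hno ⟨c, hc⟩
    have htN : (⟨tv c φ, hφ⟩ : ↥P) ∈ N.subgroupOf P := by
      rw [Subgroup.mem_subgroupOf, hN]
      exact Subgroup.subset_closure ⟨hφ, c, φ, hc0, hφ0, hφc, rfl⟩
    have h1 : qq P ⟨tv c φ, hφ⟩ ∈ M := hM ▸ Subgroup.mem_map_of_mem _ htN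
    rw [h, Subgroup.mem_bot, qq_eq_one] at h1
    exact Almost.tv_nonscalar hc0 hφ0 hφc (Subgroup.mem_subgroupOf.1 h1)
  · intro x hx
    have key : ∀ y : ↥P, ∃ n : ↥P, (n : GL (Fin 3) F) ∈ N ∧ ∃ z ∈ zz P, y = n * z := by
      intro y
      have hy : qq P y ∈ M := h ▸ Subgroup.mem_top _
      rw [hM] at hy
      obtain ⟨n, hn, hny⟩ := hy
      refine ⟨n, hn, n⁻¹ * y, ?_, (mul_inv_cancel_left n y).symm⟩
      rw [← qq_eq_one, map_mul, map_inv, hny, inv_mul_cancel]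
    rw [← R.perfect, Subgroup.commutator_def] at hx
    refine (Subgroup.closure_le N).2 ?_ hx
    rintro _ ⟨a, ha, b, hb, rfl⟩
    obtain ⟨n, hn, z, hz, hna⟩ := key ⟨a, ha⟩
    obtain ⟨m, hm, w, hw, hmb⟩ := key ⟨b, hb⟩
    have h1 : ((⟨a, ha⟩ : ↥P) * ⟨b, hb⟩ * (⟨a, ha⟩ : ↥P)⁻¹ * (⟨b, hb⟩ : ↥P)⁻¹) = n * m * n⁻¹ * m⁻¹ := by
      rw [hna, hmb]
      have cz : ∀ y, z * y = y * z := fun y => (zz_central hz y).symm
      have cw : ∀ y, w * y = y * w := fun y => (zz_central hw y).symm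
      calc n * z * (m * w) * (n * z)⁻¹ * (m * w)⁻¹ = n * (z * (m * w)) * z⁻¹ * n⁻¹ * (w⁻¹ * m⁻¹) := by group
        _ = n * m * w * n⁻¹ * (w⁻¹ * m⁻¹) := by rw [cz]; group
        _ = n * m * (w * n⁻¹) * w⁻¹ * m⁻¹ := by group
        _ = n * m * n⁻¹ * m⁻¹ := by rw [cw]; group
    have h2 : a * b * a⁻¹ * b⁻¹ =
        (n : GL (Fin 3) F) * m * (n : GL (Fin 3) F)⁻¹ * (m : GL (Fin 3) F)⁻¹ :=
      congrArg Subtype.val h1
    rw [SetLike.mem_coe, commutatorElement_def, h2]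
    exact N.mul_mem (N.mul_mem (N.mul_mem hn hm) (N.inv_mem hn)) (N.inv_mem hm)

theorem Res.eq_top_of_le_map [Fintype F] (R : Res P) (K : Subfield F) (Q : GL (Fin 3) F)
    (Y : Subgroup (Matrix.SpecialLinearGroup (Fin 3) K)) (h : P = Y.map (embK K Q)) : K = ⊤ := by
  by_contra hne
  refine R.noSub K hne ⟨Q⁻¹, ?_⟩
  rintro _ ⟨x, hx, rfl⟩ i j
  rw [SetLike.mem_coe, h] at hx
  obtain ⟨X, -, rfl⟩ := hx
  rw [← Units.val_mul, ← Units.val_mul, Transv.embK_apply, inv_inv,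
    show Q⁻¹ * (Q * Matrix.SpecialLinearGroup.toGL (Matrix.SpecialLinearGroup.map K.subtype X) * Q⁻¹) * Q =
      Matrix.SpecialLinearGroup.toGL (Matrix.SpecialLinearGroup.map K.subtype X) by group]
  exact ((X : Matrix (Fin 3) (Fin 3) K) i j).2

/-- The transvection theorem leaves the special linear group or a unitary group over the whole field. -/
theorem Res.isSLOrSU_cases [Fintype F] (R : Res P) (h : IsSLOrSU P) :
    P = Cfsg.Geo.specialLinear (Fin 3) F ∨ ∃ (r : ℕ) (Q : GL (Fin 3) F), Fintype.card F = r ^ 2 ∧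
      P = (Cfsg.GU 3 F r ⊓ Cfsg.Geo.specialLinear (Fin 3) F).map (MulAut.conj Q).toMonoidHom := by
  obtain ⟨K, Q, h⟩ := h
  have hlift : K = ⊤ → ∀ g ∈ Cfsg.Geo.specialLinear (Fin 3) F,
      ∃ X : Matrix.SpecialLinearGroup (Fin 3) K,
        Matrix.SpecialLinearGroup.toGL (Matrix.SpecialLinearGroup.map K.subtype X) = g := fun hK g hg => by
    let M : Matrix (Fin 3) (Fin 3) K := fun i j => ⟨(g : Matrix (Fin 3) (Fin 3) F) i j, hK ▸ Subfield.mem_top _⟩
    have hMg : M.map K.subtype = (g : Matrix (Fin 3) (Fin 3) F) := rfl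
    refine ⟨⟨M, K.subtype.injective ?_⟩, Units.ext rfl⟩
    rw [RingHom.map_det, RingHom.mapMatrix_apply, hMg, map_one]
    exact mem_sl_iff.1 hg
  rcases h with h | ⟨r, hr, h⟩
  · left
    have hK := R.eq_top_of_le_map K Q _ h
    refine le_antisymm R.sl fun g hg => ?_
    rw [h]
    obtain ⟨X, hX⟩ := hlift hK (Q⁻¹ * g * Q) (mem_sl_iff.2 (by
      rw [Units.val_mul, Units.val_mul, Matrix.det_mul, Matrix.det_mul, mem_sl_iff.1 hg, mul_one,
        ← Matrix.det_mul, ← Units.val_mul, inv_mul_cancel, Units.val_one, Matrix.det_one]))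
    refine ⟨X, Subgroup.mem_top X, ?_⟩
    rw [Transv.embK_apply, hX]
    group
  · right
    have hK := R.eq_top_of_le_map K Q _ h
    have hcard : Fintype.card F = r ^ 2 := by
      rw [← hr, hK, ← Nat.card_eq_fintype_card]
      exact (Nat.card_congr Subfield.topEquiv.toEquiv).symm
    refine ⟨r, Q, hcard, ?_⟩
    rw [h]
    have key : ∀ X : Matrix.SpecialLinearGroup (Fin 3) K, X ∈ Cfsg.SU 3 K r ↔
        Matrix.SpecialLinearGroup.toGL (Matrix.SpecialLinearGroup.map K.subtype X) ∈ Cfsg.GU 3 F r := fun X => by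
      have happ : ∀ (u v : Fin 3 → K),
          ((Cfsg.hermForm 3 K r ((X : Matrix (Fin 3) (Fin 3) K) *ᵥ u) ((X : Matrix (Fin 3) (Fin 3) K) *ᵥ v) : K) : F) =
          Cfsg.hermForm 3 F r
            (((X : Matrix (Fin 3) (Fin 3) K).map K.subtype) *ᵥ (K.subtype ∘ u))
            (((X : Matrix (Fin 3) (Fin 3) K).map K.subtype) *ᵥ (K.subtype ∘ v)) := fun u v => by
        simp [Cfsg.hermForm, Matrix.mulVec, dotProduct]
      constructor
      · intro hX u v
        have h1 := congrArg K.subtype (hX (fun i => ⟨u i, hK ▸ Subfield.mem_top _⟩) fun i => ⟨v i, hK ▸ Subfield.mem_top _⟩)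
        refine Eq.trans ?_ (h1.trans (by simp [Cfsg.hermForm]))
        exact (happ (fun i => ⟨u i, hK ▸ Subfield.mem_top _⟩) fun i => ⟨v i, hK ▸ Subfield.mem_top _⟩).symm
      · intro hX u v
        refine Subtype.val_injective ((happ u v).trans ((hX (K.subtype ∘ u) (K.subtype ∘ v)).trans ?_))
        simp [Cfsg.hermForm]
    ext g
    constructor
    · rintro ⟨X, hX, rfl⟩
      refine ⟨Matrix.SpecialLinearGroup.toGL (Matrix.SpecialLinearGroup.map K.subtype X),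
        ⟨(key X).1 hX, mem_sl_iff.2 (Matrix.SpecialLinearGroup.map K.subtype X).2⟩, ?_⟩
      simp [Transv.embK_apply]
    · rintro ⟨x, ⟨hxU, hxS⟩, rfl⟩
      obtain ⟨X, hX⟩ := hlift hK x hxS
      refine ⟨X, (key X).2 (hX.symm ▸ hxU), ?_⟩
      simp [Transv.embK_apply, hX]

/-- A unitary group in any coordinates fixes a unitary form. -/
theorem hasUnit_of_conj [Fintype F] {r : ℕ} (hr : Fintype.card F = r ^ 2) {Q : GL (Fin 3) F}
    (hP : ∀ x ∈ P, Q⁻¹ * x * Q ∈ Cfsg.GU 3 F r) : HasUnit P := by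
  obtain ⟨σ, f, hf, hfix⟩ : ∃ (σ : F ≃+* F) (f : (Fin 3 → F) → (Fin 3 → F) → F),
      Cfsg.Geo.IsUnitaryForm σ f ∧ ∀ g ∈ Cfsg.GU 3 F r, ∀ u v,
        f ((g : Matrix (Fin 3) (Fin 3) F) *ᵥ u) ((g : Matrix (Fin 3) (Fin 3) F) *ᵥ v) = f u v :=
    exists_form hr
  refine ⟨σ, fun u v => f (((Q⁻¹ : GL (Fin 3) F) : Matrix (Fin 3) (Fin 3) F) *ᵥ u)
    (((Q⁻¹ : GL (Fin 3) F) : Matrix (Fin 3) (Fin 3) F) *ᵥ v), ⟨hf.ne_refl, hf.involutive, fun x y v => ?_,
    fun c x v => ?_, fun v w => hf.herm _ _, fun v hv => ?_⟩, ?_⟩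
  · simp only [Matrix.mulVec_add, hf.add_left]
  · simp only [Matrix.mulVec_smul, hf.smul_left]
  · have hne : ((Q⁻¹ : GL (Fin 3) F) : Matrix (Fin 3) (Fin 3) F) *ᵥ v ≠ 0 := fun h0 => hv (by
      have := congrArg (fun w => ((Q : GL (Fin 3) F) : Matrix (Fin 3) (Fin 3) F) *ᵥ w) h0
      simpa [Matrix.mulVec_mulVec, ← Units.val_mul] using this)
    obtain ⟨⟨a, ha⟩, ⟨b, hb⟩⟩ := hf.nondegenerate _ hne
    refine ⟨⟨((Q : GL (Fin 3) F) : Matrix (Fin 3) (Fin 3) F) *ᵥ a, ?_⟩,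
      ⟨((Q : GL (Fin 3) F) : Matrix (Fin 3) (Fin 3) F) *ᵥ b, ?_⟩⟩
    · simpa [Matrix.mulVec_mulVec, ← Units.val_mul] using ha
    · simpa [Matrix.mulVec_mulVec, ← Units.val_mul] using hb
  · rintro _ ⟨x, hx, rfl⟩ u v
    have h := hfix _ (hP x hx) (((Q⁻¹ : GL (Fin 3) F) : Matrix (Fin 3) (Fin 3) F) *ᵥ u)
      (((Q⁻¹ : GL (Fin 3) F) : Matrix (Fin 3) (Fin 3) F) *ᵥ v)
    have e : ∀ w, ((Q⁻¹ * x * Q : GL (Fin 3) F) : Matrix (Fin 3) (Fin 3) F) *ᵥ
        (((Q⁻¹ : GL (Fin 3) F) : Matrix (Fin 3) (Fin 3) F) *ᵥ w) =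
        ((Q⁻¹ : GL (Fin 3) F) : Matrix (Fin 3) (Fin 3) F) *ᵥ ((x : Matrix (Fin 3) (Fin 3) F) *ᵥ w) := fun w => by
      rw [Matrix.mulVec_mulVec, Matrix.mulVec_mulVec, ← Units.val_mul, ← Units.val_mul,
        mul_inv_cancel_right]
    rw [e, e] at h
    exact h
where
  exists_form {F : Type u} [Field F] [Fintype F] {r : ℕ} (hr : Fintype.card F = r ^ 2) :
      ∃ (σ : F ≃+* F) (f : (Fin 3 → F) → (Fin 3 → F) → F), Cfsg.Geo.IsUnitaryForm σ f ∧
        ∀ g ∈ Cfsg.GU 3 F r, ∀ u v,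
          f ((g : Matrix (Fin 3) (Fin 3) F) *ᵥ u) ((g : Matrix (Fin 3) (Fin 3) F) *ᵥ v) = f u v := by
    obtain ⟨σ, hσ⟩ : ∃ σ : F ≃+* F, ∀ a, σ a = a ^ r := by
      obtain ⟨p, hp⟩ := CharP.exists F
      obtain ⟨⟨α, hα⟩, hpp, hc⟩ := FiniteField.card F p
      simp only [PNat.mk_coe] at hc
      haveI : Fact p.Prime := ⟨hpp⟩
      haveI : ExpChar F p := ExpChar.prime hpp
      obtain ⟨β, -, hrβ⟩ := (Nat.dvd_prime_pow hpp).1 (show r ∣ p ^ α from ⟨r, by rw [← hc, hr, pow_two]⟩)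
      exact ⟨RingEquiv.ofBijective (iterateFrobenius F p β)
        (Finite.injective_iff_bijective.1 (iterateFrobenius_inj F p β)), fun a => by
        show iterateFrobenius F p β a = _
        rw [iterateFrobenius_def, hrβ]⟩
    have hinv : ∀ a, σ (σ a) = a := fun a => by
      rw [hσ, hσ, ← pow_mul, ← pow_two, ← hr, FiniteField.pow_card]
    have hne : σ ≠ RingEquiv.refl F := fun h => by
      have hr2 : 2 ≤ r := by
        have := Fintype.one_lt_card (α := F)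
        rw [hr] at this
        nlinarith
      have hroot : ∀ a : F, a ^ r = a := fun a => by rw [← hσ, h]; rfl
      classical
      have hsub : (Finset.univ : Finset F) ⊆ (Polynomial.X ^ r - Polynomial.X : Polynomial F).roots.toFinset := by
        intro a _
        rw [Multiset.mem_toFinset, Polynomial.mem_roots (FiniteField.X_pow_card_sub_X_ne_zero F hr2),
          Polynomial.IsRoot.def]
        simp [hroot a]
      have hle := (Finset.card_le_card hsub).trans ((Multiset.toFinset_card_le _).trans (Polynomial.card_roots' _))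
      rw [Finset.card_univ, FiniteField.X_pow_card_sub_X_natDegree_eq F hr2, hr] at hle
      nlinarith
    refine ⟨σ, PrimeDim.sesq (σ : F →+* F) 1,
      PrimeDim.unitaryForm_of_gram hne hinv (by simp) (by simp), fun g hg u v => ?_⟩
    have e : ∀ a b : Fin 3 → F, PrimeDim.sesq (σ : F →+* F) 1 a b = Cfsg.hermForm 3 F r a b := fun a b => by
      simp [PrimeDim.sesq, Cfsg.hermForm, dotProduct, hσ]
    rw [e, e]
    exact hg u v

end Cfsg.Agent.Mitchell.Residual
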