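/-
Residual cores in odd characteristic.
Main results:
* `Res.ctx` : adjoin the scalars of `SL₃`
* `Res.odd_cases` : classical, or `PSL₂(r)` or `A₇`
-/
import Cfsg.Agent.Lib.Mitchell.Residual.Elations
import Cfsg.Agent.Lib.Mitchell.Free.Setup
import Cfsg.Agent.Lib.Mitchell.Ident.Field

set_option autoImplicit false
set_option linter.unusedSectionVars false
set_option linter.style.haveILetI false

namespace Cfsg.Agent.Mitchell.Residual

open Matrix Cfsg.Agent.SL3Max Cfsg.Agent.Transvect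

universe u

variable {F : Type u} [Field F] {P : Subgroup (GL (Fin 3) F)}

/-- The quotient of a transvection-free core is a quotient in the standing context. -/
theorem Res.ctx [Fintype F] (R : Res P) (h2 : (2 : F) ≠ 0) (hef : ElationFree P) :
    ∃ G : Subgroup (GL (Fin 3) F), Ctx G ∧ Nonempty (Sq G ≃* Quo P) := by
  classical
  obtain ⟨Z, hZ⟩ : ∃ Z, Z = Cfsg.Geo.scalars (Fin 3) F ⊓ Cfsg.Geo.specialLinear (Fin 3) F := ⟨_, rfl⟩
  obtain ⟨G, hG⟩ : ∃ G, G = P ⊔ Z := ⟨_, rfl⟩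
  have hZs : ∀ z ∈ Z, z ∈ Cfsg.Geo.scalars (Fin 3) F := fun z hz => (Subgroup.mem_inf.1 (hZ ▸ hz)).1
  haveI : Z.Normal := ⟨fun z hz g => by
    rw [PrimeDim.scalars_central (hZs z hz) g, mul_inv_cancel_right]; exact hz⟩
  have hdec : ∀ g ∈ G, ∃ x ∈ P, ∃ z ∈ Z, g = x * z := fun g hg => by
    rw [hG] at hg
    obtain ⟨x, hx, z, hz, e⟩ := Subgroup.mem_sup_of_normal_right.1 hg
    exact ⟨x, hx, z, hz, e.symm⟩
  have hPG : P ≤ G := hG ▸ le_sup_left
  let f : ↥P →* Sq G := (pr G).comp (Subgroup.inclusion hPG)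
  have hf : Function.Surjective f := by
    intro y
    obtain ⟨⟨g, hg⟩, rfl⟩ := QuotientGroup.mk'_surjective _ y
    obtain ⟨x, hx, z, hz, rfl⟩ := hdec g hg
    refine ⟨⟨x, hx⟩, (pr_eq).2 ?_⟩
    show x * (x * z)⁻¹ ∈ _
    rw [_root_.mul_inv_rev, ← mul_assoc, PrimeDim.scalars_central (inv_mem (hZs z hz)) x,
      mul_inv_cancel_right]
    exact inv_mem (hZs z hz)
  have hker : f.ker = zz P := by
    ext x
    rw [MonoidHom.mem_ker, Subgroup.mem_subgroupOf]
    exact pr_eq_one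
  obtain ⟨e⟩ : Nonempty (Sq G ≃* Quo P) :=
    ⟨(QuotientGroup.quotientKerEquivOfSurjective f hf).symm.trans (QuotientGroup.quotientMulEquivOfEq hker)⟩
  refine ⟨G, ⟨h2, hG ▸ sup_le R.sl (hZ ▸ inf_le_right), hG ▸ hZ ▸ le_sup_right, fun c hc => ?_, ?_, ?_⟩, ⟨e⟩⟩
  · obtain ⟨hc0, φ, hφ0, hφc, hφ⟩ := hc
    obtain ⟨x, hx, z, hz, hxz⟩ := hdec _ hφ
    refine hef c ⟨hc0, φ, hφ0, hφc, ?_⟩
    obtain ⟨p, hp⟩ := CharP.exists F
    obtain ⟨⟨α, _⟩, hpp, -⟩ := FiniteField.card F p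
    haveI : Fact p.Prime := ⟨hpp⟩
    have hzs : z ∈ Cfsg.Geo.scalars (Fin 3) F := hZs z hz
    have hz3 : z ^ 3 = 1 := Ident.scalar_cube hzs (Subgroup.mem_inf.1 (hZ ▸ hz)).2
    by_cases hp3 : p = 3
    · subst hp3
      rw [hxz, Ident.scalar_eq_one_of_pow 3 hzs hz3, mul_one]
      exact hx
    · have hcube : (tv c φ) ^ 3 ∈ P := by
        rw [hxz, (show Commute x z from PrimeDim.scalars_central hzs x).mul_pow, hz3, mul_one]
        exact pow_mem hx 3
      have hpw : (tv c φ) ^ p = 1 := by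
        rw [C5.tv_pow hφc, CharP.cast_eq_zero, zero_smul, tv_zero]
      obtain ⟨m, hm⟩ := Almost.exists_cube_root hpw (fun h => hp3
        ((Nat.prime_dvd_prime_iff_eq Nat.prime_three hpp).1 h).symm)
      rw [← hm, ← pow_mul, mul_comm, pow_mul]
      exact pow_mem hcube m
  · haveI := R.simple
    haveI : Nontrivial (Sq G) := e.toEquiv.nontrivial
    exact IsSimpleGroup.isSimpleGroup_of_surjective e.symm.toMonoidHom e.symm.surjective
  · exact fun hc => R.nonab ⟨⟨fun a b => e.symm.injective (by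
      rw [map_mul, map_mul]; exact hc.is_comm.comm _ _)⟩⟩

/-- In odd characteristic: classical, or one of the small quotients. -/
theorem Res.odd_cases [Fintype F] (R : Res P) (h2 : (2 : F) ≠ 0)
    (free : ∀ {G : Subgroup (GL (Fin 3) F)}, Ctx G →
      (∃ (K : Type) (_ : Field K) (_ : Fintype K), Odd (Fintype.card K) ∧ 3 < Fintype.card K ∧
        Nonempty (Sq G ≃* Matrix.ProjectiveSpecialLinearGroup (Fin 2) K)) ∨
      Nonempty (Sq G ≃* alternatingGroup (Fin 7))) :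
    IsSLOrSU P ∨
      ((∃ (K : Type) (_ : Field K) (_ : Fintype K), Odd (Fintype.card K) ∧ 3 < Fintype.card K ∧
        Nonempty (Quo P ≃* Matrix.ProjectiveSpecialLinearGroup (Fin 2) K)) ∨
      Nonempty (Quo P ≃* alternatingGroup (Fin 7))) := by
  by_cases hef : ElationFree P
  · obtain ⟨G, C, ⟨e⟩⟩ := R.ctx h2 hef
    rcases free C with ⟨K, iK, fK, hK, hK3, ⟨e'⟩⟩ | h
    · exact Or.inr (Or.inl ⟨K, iK, fK, hK, hK3, ⟨e.symm.trans e'⟩⟩)
    · obtain ⟨e'⟩ := h
      exact Or.inr (Or.inr ⟨e.symm.trans e'⟩)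
  · exact Or.inl (isSLOrSU_of_transvections h2 P R.sl R.irred (R.closure_tvSet_eq hef))

end Cfsg.Agent.Mitchell.Residual
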