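/-
The maximal residual subgroups of `SL₃(q)` and `SU₃(q)`, from the transvection-free classification.
Main results:
* `linear_socles`, `unitary_socles`
-/
import Cfsg.Agent.Lib.Mitchell.Residual.Odd
import Cfsg.Agent.Lib.Mitchell.Residual.Even.Main
import Cfsg.Agent.Lib.Mitchell.Residual.UThreeFive.Main

set_option autoImplicit false
set_option linter.unusedSectionVars false
set_option linter.style.haveILetI false

namespace Cfsg.Agent.Mitchell.Residual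

open Matrix Cfsg.Agent.SL3Max Cfsg.Agent.Transvect

universe u

variable {F : Type u} [Field F] [Fintype F]

/-- The input from the transvection-free classification. -/
def FreeStep (F : Type u) [Field F] : Prop :=
  ∀ {G : Subgroup (GL (Fin 3) F)}, Ctx G →
    (∃ (K : Type) (_ : Field K) (_ : Fintype K), Odd (Fintype.card K) ∧ 3 < Fintype.card K ∧
      Nonempty (Sq G ≃* Matrix.ProjectiveSpecialLinearGroup (Fin 2) K)) ∨
    Nonempty (Sq G ≃* alternatingGroup (Fin 7))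

variable {P : Subgroup (GL (Fin 3) F)} {p α : ℕ} [Fact p.Prime] [CharP F p]

theorem Res.all_cases (R : Res P) (hF : Fintype.card F = p ^ α) (hQ : ¬ HasQuad P) (free : FreeStep F) :
    (P = Cfsg.Geo.specialLinear (Fin 3) F ∨ ∃ (r : ℕ) (Q : GL (Fin 3) F), Fintype.card F = r ^ 2 ∧
      P = (Cfsg.GU 3 F r ⊓ Cfsg.Geo.specialLinear (Fin 3) F).map (MulAut.conj Q).toMonoidHom) ∨
    ((Nonempty (Quo P ≃* Matrix.ProjectiveSpecialLinearGroup (Fin 3) (ZMod 2)) ∧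
      ((α = 1 ∧ (p % 7 = 1 ∨ p % 7 = 2 ∨ p % 7 = 4)) ∨
        (α = 2 ∧ HasUnit P ∧ (p % 7 = 3 ∨ p % 7 = 5 ∨ p % 7 = 6)))) ∨
    (Nonempty (Quo P ≃* alternatingGroup (Fin 6)) ∧ p ≠ 3 ∧
      ((α = 1 ∧ (p % 15 = 1 ∨ p % 15 = 4)) ∨ (α = 2 ∧ (p % 5 = 2 ∨ p % 5 = 3) ∧ ¬ HasUnit P) ∨
        (α = 2 ∧ HasUnit P ∧ (p % 15 = 11 ∨ p % 15 = 14 ∨ p = 5)))) ∨
    (Nonempty (Quo P ≃* alternatingGroup (Fin 7)) ∧ p = 5 ∧ α = 2 ∧ HasUnit P)) := by
  by_cases hp2 : p = 2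
  · subst hp2
    rcases R.even_cases hF with h | h | h
    · exact Or.inl (R.isSLOrSU_cases h)
    · exact absurd h hQ
    · exact Or.inr (R.small_cases hF hQ h)
  · have h2 : (2 : F) ≠ 0 := fun h => hp2 ((Nat.prime_dvd_prime_iff_eq Fact.out Nat.prime_two).1
      ((CharP.cast_eq_zero_iff F p 2).1 (by exact_mod_cast h)))
    rcases R.odd_cases h2 free with h | h
    · exact Or.inl (R.isSLOrSU_cases h)
    · exact Or.inr (R.small_cases hF hQ h)

omit [Fact p.Prime] [CharP F p] in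
theorem exists_prime_pow : ∃ p α : ℕ, p.Prime ∧ CharP F p ∧ 0 < α ∧ Fintype.card F = p ^ α := by
  obtain ⟨p, hp⟩ := CharP.exists F
  obtain ⟨⟨α, hα⟩, hpp, hc⟩ := FiniteField.card F p
  exact ⟨p, α, hpp, hp, hα, hc⟩

private theorem cube_two : ∀ r : ZMod 2, r ^ 3 = 1 → r = 1 := by decide

omit [Fact p.Prime] [CharP F p] in
/-- A copy of `PSL₃(2)` fills `SL₃(2)`. -/
theorem card_sl_le (hF : Fintype.card F = 2)
    (h : Nonempty (Quo P ≃* Matrix.ProjectiveSpecialLinearGroup (Fin 3) (ZMod 2))) :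
    Nat.card (Cfsg.Geo.specialLinear (Fin 3) F) ≤ Nat.card P := by
  obtain ⟨e⟩ := h
  haveI : CharP F 2 := charP_of_card_eq_prime hF
  haveI : Fact (Nat.Prime 2) := ⟨Nat.prime_two⟩
  have hbij : Function.Bijective (ZMod.castHom (dvd_refl 2) F) :=
    (Fintype.bijective_iff_injective_and_card _).2 ⟨RingHom.injective _, by rw [hF, ZMod.card]⟩
  let ψ : ZMod 2 ≃+* F := RingEquiv.ofBijective _ hbij
  let f : Matrix.SpecialLinearGroup (Fin 3) (ZMod 2) → Cfsg.Geo.specialLinear (Fin 3) F := fun X =>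
    ⟨Matrix.SpecialLinearGroup.toGL (Matrix.SpecialLinearGroup.map (ψ : ZMod 2 →+* F) X),
      mem_sl_iff.2 (Matrix.SpecialLinearGroup.map (ψ : ZMod 2 →+* F) X).2⟩
  have hf : Function.Surjective f := fun g => by
    refine ⟨Matrix.SpecialLinearGroup.map (ψ.symm : F →+* ZMod 2)
      ⟨((g : GL (Fin 3) F) : Matrix (Fin 3) (Fin 3) F), mem_sl_iff.1 g.2⟩, Subtype.ext (Units.ext ?_)⟩
    ext i j
    simp only [f]
    exact ψ.apply_symm_apply _
  have hc : Subgroup.center (Matrix.SpecialLinearGroup (Fin 3) (ZMod 2)) = ⊥ := by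
    rw [eq_bot_iff]
    intro X hX
    obtain ⟨r, hr, hX'⟩ := Matrix.SpecialLinearGroup.mem_center_iff.1 hX
    have hr1 : r = 1 := cube_two r (by simpa using hr)
    rw [Subgroup.mem_bot]
    exact Subtype.ext (by rw [← hX', hr1, map_one]; rfl)
  calc Nat.card (Cfsg.Geo.specialLinear (Fin 3) F)
      ≤ Nat.card (Matrix.SpecialLinearGroup (Fin 3) (ZMod 2)) := Nat.card_le_card_of_surjective f hf
    _ = Nat.card (Matrix.SpecialLinearGroup (Fin 3) (ZMod 2) ⧸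
          Subgroup.center (Matrix.SpecialLinearGroup (Fin 3) (ZMod 2))) := by
        rw [hc]
        exact (Nat.card_congr QuotientGroup.quotientBot.toEquiv).symm
    _ = Nat.card (Quo P) := Nat.card_congr e.symm.toEquiv
    _ ≤ Nat.card P := Nat.card_le_card_of_surjective _ (QuotientGroup.mk'_surjective (zz P))

omit [Fact p.Prime] [CharP F p] in
theorem linear_socles (free : FreeStep F) (H : Subgroup (GL (Fin 3) F))
    (hH : Cfsg.Geo.IsMaximalIn (Cfsg.Geo.specialLinear (Fin 3) F) H) (hS : Cfsg.Geo.InLinearResidualClass H) :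
    ∃ (P : Subgroup (GL (Fin 3) F)) (p : ℕ), Cfsg.Geo.IsResidualCore H P ∧ p.Prime ∧ CharP F p ∧
    ((Nonempty (Quo P ≃* Matrix.ProjectiveSpecialLinearGroup (Fin 3) (ZMod 2)) ∧
        Fintype.card F = p ∧ p ≠ 2 ∧ (p % 7 = 1 ∨ p % 7 = 2 ∨ p % 7 = 4)) ∨
     (Nonempty (Quo P ≃* alternatingGroup (Fin 6)) ∧
        ((Fintype.card F = p ∧ (p % 15 = 1 ∨ p % 15 = 4)) ∨
          (Fintype.card F = p ^ 2 ∧ p ≠ 3 ∧ (p % 5 = 2 ∨ p % 5 = 3))))) := by
  obtain ⟨P, hP, hQ, -, hU⟩ := hS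
  obtain ⟨p, α, hpp, hp, -, hF⟩ := exists_prime_pow (F := F)
  haveI : Fact p.Prime := ⟨hpp⟩
  refine ⟨P, p, hP, hpp, hp, ?_⟩
  have R := res_of_core hH.1.le hP
  rcases R.all_cases hF hQ free with (h | ⟨r, Q, hr, h⟩) | ⟨hi, h⟩ | ⟨hi, hp3, h⟩ | ⟨-, -, -, h⟩
  · exact absurd (h ▸ hP.le) (not_le_of_gt hH.1)
  · refine absurd (hasUnit_of_conj hr (Q := Q) fun x hx => ?_) hU
    rw [h] at hx
    obtain ⟨y, hy, rfl⟩ := hx
    simpa [mul_assoc] using hy.1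
  · rcases h with ⟨rfl, h7⟩ | ⟨-, h, -⟩
    · rw [pow_one] at hF
      refine Or.inl ⟨hi, hF, fun h2 => ?_, h7⟩
      subst h2
      refine absurd (Subgroup.eq_of_le_of_card_ge hH.1.le ?_) hH.1.ne
      exact (card_sl_le hF hi).trans (Subgroup.card_le_of_le hP.le)
    · exact absurd h hU
  · rcases h with ⟨rfl, h15⟩ | ⟨rfl, h5, -⟩ | ⟨-, h, -⟩
    · rw [pow_one] at hF; exact Or.inr ⟨hi, Or.inl ⟨hF, h15⟩⟩
    · exact Or.inr ⟨hi, Or.inr ⟨hF, hp3, h5⟩⟩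
    · exact absurd h hU
  · exact absurd h hU

omit [Fact p.Prime] [CharP F p] in
theorem unitary_socles (free : FreeStep F) (q : ℕ) (hFq : Fintype.card F = q ^ 2) (H : Subgroup (GL (Fin 3) F))
    (hH : Cfsg.Geo.IsMaximalIn (Cfsg.GU 3 F q ⊓ Cfsg.Geo.specialLinear (Fin 3) F) H)
    (hS : Cfsg.Geo.InUnitaryResidualClass H) :
    ∃ P : Subgroup (GL (Fin 3) F), Cfsg.Geo.IsResidualCore H P ∧ q.Prime ∧
    ((Nonempty (Quo P ≃* Matrix.ProjectiveSpecialLinearGroup (Fin 3) (ZMod 2)) ∧ q ≠ 5 ∧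
        (q % 7 = 3 ∨ q % 7 = 5 ∨ q % 7 = 6)) ∨
     (Nonempty (Quo P ≃* alternatingGroup (Fin 6)) ∧ (q % 15 = 11 ∨ q % 15 = 14 ∨ q = 5)) ∨
     (Nonempty (Quo P ≃* alternatingGroup (Fin 7)) ∧ q = 5)) := by
  obtain ⟨P, hP, hQ, -⟩ := hS
  obtain ⟨p, α, hpp, hp, -, hF⟩ := exists_prime_pow (F := F)
  haveI : Fact p.Prime := ⟨hpp⟩
  refine ⟨P, hP, ?_⟩
  have hle : H ≤ Cfsg.GU 3 F q ⊓ Cfsg.Geo.specialLinear (Fin 3) F := hH.1.le
  have R := res_of_core (hle.trans inf_le_right) hP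
  have hU : HasUnit P := hasUnit_of_conj hFq (Q := 1) fun x hx => by
    simpa using (hle (hP.le hx)).1
  obtain ⟨β, -, hqβ⟩ := (Nat.dvd_prime_pow hpp).1 (show q ∣ p ^ α from ⟨q, by rw [← hF, hFq, pow_two]⟩)
  have hαβ : α = 2 * β := by
    refine Nat.pow_right_injective hpp.two_le ?_
    show p ^ α = p ^ (2 * β)
    rw [← hF, hFq, hqβ, ← pow_mul, mul_comm]
  have hq : α = 2 → q = p := fun h => by rw [hqβ, show β = 1 by omega, pow_one]
  rcases R.all_cases hF hQ free with (h | ⟨r, Q, hr, h⟩) | ⟨hi, h⟩ | ⟨hi, -, h⟩ | ⟨hi, h5, hα, -⟩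
  · exact absurd ((inf_le_right).trans (h ▸ hP.le)) (not_le_of_gt hH.1)
  · exfalso
    have hrq : r = q := Nat.pow_left_injective (by norm_num) (hr.symm.trans hFq)
    subst hrq
    refine hH.1.ne (Subgroup.eq_of_le_of_card_ge hle ?_)
    refine le_trans (le_of_eq ?_) (Subgroup.card_le_of_le hP.le)
    rw [h]
    exact Nat.card_congr (Subgroup.equivMapOfInjective _ _ (MulAut.conj Q).injective).toEquiv
  · rcases h with ⟨hα, -⟩ | ⟨hα, -, h7⟩
    · omega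
    · obtain rfl := hq hα
      refine ⟨hpp, Or.inl ⟨hi, fun h5 => ?_, h7⟩⟩
      subst h5
      obtain ⟨e⟩ := hi
      exact UThreeFive.no_psl_seven_five hFq H hH P hP e
  · rcases h with ⟨hα, -⟩ | ⟨-, -, h⟩ | ⟨hα, -, h15⟩
    · omega
    · exact absurd hU h
    · obtain rfl := hq hα
      exact ⟨hpp, Or.inr (Or.inl ⟨hi, h15⟩)⟩
  · obtain rfl := hq hα
    exact ⟨hpp, Or.inr (Or.inr ⟨hi, h5⟩)⟩

end Cfsg.Agent.Mitchell.Residual
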