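/-
Residual cores in dimension three: what the trace function says about subfields and forms.
Main results:
* `Res`, `res_of_core` : the standing hypotheses
* `TraceRel` and `traceRel_of_regular` : it suffices to look at elements of order prime to `p`
* `Res.dvd_of_fix` : traces fixed by `x ↦ x ^ p ^ k` give `q ∣ p ^ k`
* `Res.fixes_quad_of_selfdual`, `Res.fixes_unitary` : invariant forms from the traces
* `Res.twist_cases` : `tr (x⁻¹) = (tr x) ^ p ^ k` gives a form
-/
import Cfsg.Agent.Lib.Mitchell.Residual.Core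
import Cfsg.Agent.Lib.Mitchell.Transv.Basic
import Cfsg.Agent.Lib.PrimeDim.Fields

set_option autoImplicit false
set_option linter.unusedSectionVars false

namespace Cfsg.Agent.Mitchell.Residual

open Matrix

universe u

variable {F : Type u} [Field F]

/-- The standing hypotheses on a residual core. -/
structure Res (P : Subgroup (GL (Fin 3) F)) : Prop where
  sl : P ≤ Cfsg.Geo.specialLinear (Fin 3) F
  perfect : ⁅P, P⁆ = P
  simple : IsSimpleGroup (Quo P)
  nonab : ¬ IsMulCommutative (Quo P)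
  absIrred : Cfsg.Geo.ActsAbsolutelyIrreducibly (Cfsg.Geo.matrixSet P)
  noSub : ∀ F₀ : Subfield F, F₀ ≠ ⊤ → ¬ Cfsg.Geo.RealisableOver F₀ (Cfsg.Geo.matrixSet P)

theorem res_of_core {H P : Subgroup (GL (Fin 3) F)} (hH : H ≤ Cfsg.Geo.specialLinear (Fin 3) F)
    (h : Cfsg.Geo.IsResidualCore H P) : Res P :=
  ⟨h.le.trans hH, h.perfect, h.simple, h.nonabelian, h.absIrred, h.no_subfield⟩

/-- `(tr x) ^ p ^ k = tr (x ^ e)` on `P`. -/
def TraceRel (P : Subgroup (GL (Fin 3) F)) (p k : ℕ) (e : ℤ) : Prop :=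
  ∀ x : ↥P, trc P x ^ p ^ k = trc P (x ^ e)

/-- It suffices to check a trace relation on elements of order prime to the characteristic. -/
theorem traceRel_of_regular [Finite F] {P : Subgroup (GL (Fin 3) F)} (p : ℕ) [Fact p.Prime] [CharP F p]
    {k : ℕ} {e : ℤ}
    (h : ∀ x : ↥P, (orderOf x).Coprime p → trc P x ^ p ^ k = trc P (x ^ e)) : TraceRel P p k e := by
  intro x
  obtain ⟨a, m, hm, hn⟩ := Nat.exists_eq_pow_mul_and_not_dvd (orderOf_pos x).ne' p
    (Fact.out : p.Prime).ne_one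
  have ho : orderOf (x ^ p ^ a) = m := by
    rw [orderOf_pow, hn, Nat.gcd_eq_right (dvd_mul_right _ _),
      Nat.mul_div_cancel_left _ (pow_pos (Fact.out : p.Prime).pos a)]
  have hh := h (x ^ p ^ a) (by
    rw [ho]
    exact ((Fact.out : p.Prime).coprime_iff_not_dvd.2 hm).symm)
  have e1 : ∀ y : ↥P, trc P (y ^ p ^ a) = trc P y ^ p ^ a := fun y => by
    unfold trc
    rw [SubgroupClass.coe_pow, Units.val_pow_eq_pow_val, trace_pow_char_pow p]
  have e2 : (x ^ p ^ a) ^ e = (x ^ e) ^ p ^ a := by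
    rw [← zpow_natCast x, ← zpow_natCast (x ^ e), ← _root_.zpow_mul, ← _root_.zpow_mul, mul_comm]
  rw [e1, e2, e1, ← pow_mul, mul_comm, pow_mul] at hh
  haveI : ExpChar F p := ExpChar.prime Fact.out
  exact iterateFrobenius_inj F p a (by simpa [iterateFrobenius_def] using hh)

theorem traceRel_of_conj [Finite F] {P : Subgroup (GL (Fin 3) F)} (p : ℕ) [Fact p.Prime] [CharP F p]
    {k : ℕ} {e : ℤ}
    (h : ∀ x : ↥P, (orderOf x).Coprime p → IsConj (x ^ p ^ k) (x ^ e)) : TraceRel P p k e :=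
  traceRel_of_regular p fun x hx => by
    rw [← trc_eq_of_isConj (h x hx)]
    unfold trc
    rw [SubgroupClass.coe_pow, Units.val_pow_eq_pow_val, trace_pow_char_pow p]

variable {P : Subgroup (GL (Fin 3) F)}

theorem Res.span_top (R : Res P) : Submodule.span F (Cfsg.Geo.matrixSet P) = ⊤ :=
  PrimeDim.span_eq_top R.absIrred

/-- Traces fixed by `x ↦ x ^ p ^ k` put `q` below `p ^ k`. -/
theorem Res.dvd_of_fix [Fintype F] (R : Res P) {p α : ℕ} [Fact p.Prime] [CharP F p]
    (hF : Fintype.card F = p ^ α) {k : ℕ} (h : TraceRel P p k 1) : α ∣ k := by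
  haveI : ExpChar F p := ExpChar.prime Fact.out
  have hα : 0 < α := by
    rcases Nat.eq_zero_or_pos α with h0 | h0
    · have := Fintype.one_lt_card (α := F); rw [hF, h0, pow_zero] at this; omega
    · exact h0
  have htop : PrimeDim.fixedSubfield F p k = ⊤ := by
    by_contra hne
    refine R.noSub _ hne (PrimeDim.realisableOver_of_trace R.span_top R.absIrred.2 _ fun x hx => ?_)
    rw [PrimeDim.mem_fixedSubfield]
    have := h ⟨x, hx⟩
    rwa [zpow_one] at this
  have hall : ∀ a : F, a ^ p ^ k = a := fun a => PrimeDim.mem_fixedSubfield.1 (htop ▸ Subfield.mem_top a)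
  have hall' : ∀ a : F, a ^ p ^ (k % α) = a := by
    intro a
    have e1 : ∀ j, a ^ p ^ (α * j) = a := fun j => by
      rw [pow_mul, ← hF, FiniteField.pow_card_pow]
    conv_rhs => rw [← hall a]
    rw [show p ^ k = p ^ (α * (k / α)) * p ^ (k % α) by rw [← pow_add, Nat.div_add_mod], pow_mul, e1]
  refine Nat.dvd_of_mod_eq_zero ?_
  by_contra hne
  refine PrimeDim.fixedSubfield_ne_top (F := F) (Fact.out : p.Prime) hF (Nat.pos_of_ne_zero hne)
    (Nat.mod_lt _ hα) ?_
  exact eq_top_iff.2 fun a _ => PrimeDim.mem_fixedSubfield.2 (hall' a)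

/-- An invariant sesquilinear Gram matrix from the traces. -/
theorem Res.exists_gram (R : Res P) (σ : F →+* F) (hσ : ∀ a, σ (σ a) = a)
    (htr : ∀ x : ↥P, trc P x⁻¹ = σ (trc P x)) :
    ∃ G : Matrix (Fin 3) (Fin 3) F, G.det ≠ 0 ∧
      ∀ x ∈ P, (x : Matrix (Fin 3) (Fin 3) F)ᵀ * G * (x : Matrix (Fin 3) (Fin 3) F).map σ = G := by
  let θ : ↥P →* GL (Fin 3) F :=
    (Matrix.GeneralLinearGroup.map σ).comp (Transv.dualHom.comp P.subtype)
  have hval : ∀ x : ↥P, (θ x : Matrix (Fin 3) (Fin 3) F) =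
      ((((x : GL (Fin 3) F)⁻¹ : GL (Fin 3) F) : Matrix (Fin 3) (Fin 3) F)ᵀ).map σ := fun x => rfl
  obtain ⟨B, hB⟩ := PrimeDim.exists_intertwiner R.span_top θ (fun x => by
    rw [hval]
    have e : ∀ M : Matrix (Fin 3) (Fin 3) F, (Mᵀ.map σ).trace = σ M.trace := fun M => by
      simp [Matrix.trace, map_sum]
    rw [e]
    show σ (trc P x⁻¹) = _
    rw [htr, hσ]
    rfl)
  refine ⟨((B : Matrix (Fin 3) (Fin 3) F)ᵀ).map (RingHom.id F), ?_, fun x hx => ?_⟩
  · simp only [RingHom.coe_id, Matrix.map_id, Matrix.det_transpose]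
    exact (Matrix.GeneralLinearGroup.det B).ne_zero
  · simp only [RingHom.coe_id, Matrix.map_id]
    have h1 : θ ⟨x, hx⟩ * B = B * x := by rw [hB]; simp [mul_assoc]
    have h2 := congrArg (Units.val) h1
    rw [Units.val_mul, Units.val_mul, hval] at h2
    have h3 : ((x : Matrix (Fin 3) (Fin 3) F).map σ)ᵀ *
        ((((x⁻¹ : GL (Fin 3) F) : Matrix (Fin 3) (Fin 3) F)ᵀ).map σ) = 1 := by
      rw [← Matrix.transpose_map, ← Matrix.map_mul, ← Matrix.transpose_mul, ← Units.val_mul,
        inv_mul_cancel, Units.val_one, Matrix.transpose_one, Matrix.map_one σ σ.map_zero σ.map_one]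
    have h4 : (B : Matrix (Fin 3) (Fin 3) F) = ((x : Matrix (Fin 3) (Fin 3) F).map σ)ᵀ * B * x := by
      rw [mul_assoc, ← h2, ← mul_assoc, h3, one_mul]
    conv_rhs => rw [h4]
    simp [Matrix.transpose_mul, Matrix.transpose_transpose, mul_assoc]

/-- A self-dual core fixes a quadratic form (and does not exist in characteristic two). -/
theorem Res.fixes_quad_of_selfdual [Finite F] (R : Res P)
    (htr : ∀ x : ↥P, trc P x⁻¹ = trc P x) :
    ∃ Q : (Fin 3 → F) → F, Cfsg.Geo.IsNondegenerateQuadraticForm Q ∧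
      Cfsg.Geo.FixesQuadForm (Cfsg.Geo.matrixSet P) Q := by
  obtain ⟨G, hG, hinv⟩ := R.exists_gram (RingHom.id F) (fun _ => rfl) htr
  have hinv' : ∀ x ∈ P, (x : Matrix (Fin 3) (Fin 3) F)ᵀ * G * (x : Matrix (Fin 3) (Fin 3) F) = G :=
    fun x hx => by simpa using hinv x hx
  obtain ⟨c, hc⟩ := PrimeDim.invariant_unique R.absIrred.2 (RingHom.id F) (isUnit_iff_ne_zero.2 hG) hinv
    (G' := Gᵀ) (fun x hx => by
      have := congrArg Matrix.transpose (hinv' x hx)
      simpa [Matrix.transpose_mul, mul_assoc] using this)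
  have hc2 : c ^ 2 = 1 := by
    have h1 : G = c • (c • G) := by
      conv_lhs => rw [← Matrix.transpose_transpose G, hc, Matrix.transpose_smul, hc]
    have h2 := congrArg Matrix.det h1
    rw [smul_smul, Matrix.det_smul, Fintype.card_fin] at h2
    have h3 : (c * c) ^ 3 = 1 := mul_right_cancel₀ hG (by rw [one_mul]; exact h2.symm)
    have h4 : c ^ 3 = 1 := by
      have := congrArg Matrix.det hc
      rw [Matrix.det_transpose, Matrix.det_smul, Fintype.card_fin] at this
      exact mul_right_cancel₀ hG (by rw [one_mul]; exact this.symm)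
    have h5 : (c * c - 1) • G = 0 := by rw [sub_smul, one_smul, ← smul_smul, ← h1, sub_self]
    rcases smul_eq_zero.1 h5 with h6 | h6
    · rw [pow_two]; exact sub_eq_zero.1 h6
    · exact absurd (by rw [h6]; simp) hG
  have hc1 : c = 1 := by
    rcases sq_eq_one_iff.1 hc2 with h | h
    · exact h
    · have h3 := congrArg Matrix.det hc
      rw [Matrix.det_transpose, h, Matrix.det_smul, Fintype.card_fin] at h3
      have : (2 : F) * G.det = 0 := by linear_combination h3
      rcases mul_eq_zero.1 this with h2 | h2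
      · rw [h]; linear_combination -h2
      · exact absurd h2 hG
  subst hc1
  rw [one_smul] at hc
  have hsymm : ∀ i j, G i j = G j i := fun i j => by
    conv_lhs => rw [← hc]
    rfl
  by_cases h2 : (2 : F) = 0
  · exfalso
    haveI : CharP F 2 := CharTwo.of_one_ne_zero_of_two_eq_zero one_ne_zero h2
    have hsqrt : ∀ a : F, ∃ b : F, b * b = a := fun a => by
      obtain ⟨b, hb⟩ := FiniteField.isSquare_of_char_two (ringChar.eq F 2) a
      exact ⟨b, hb.symm⟩
    choose s hs using fun i => hsqrt (G i i)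
    let L : (Fin 3 → F) →ₗ[F] F := ∑ i, s i • LinearMap.proj i
    have hL : ∀ v, v ⬝ᵥ G *ᵥ v = L v * L v := by
      intro v
      have e01 := hsymm 0 1; have e02 := hsymm 0 2; have e12 := hsymm 1 2
      simp [L, dotProduct, Matrix.mulVec, Fin.sum_univ_three]
      linear_combination -(v 0 * v 0) * hs 0 - (v 1 * v 1) * hs 1 - (v 2 * v 2) * hs 2 +
        (v 0 * v 1) * (G 1 0) * h2 + (v 0 * v 2) * (G 2 0) * h2 + (v 1 * v 2) * (G 2 1) * h2 +
        (v 0 * v 1) * e01 + (v 0 * v 2) * e02 + (v 1 * v 2) * e12 -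
        (s 0 * s 1 * v 0 * v 1 + s 0 * s 2 * v 0 * v 2 + s 1 * s 2 * v 1 * v 2) * h2
    have hW : ∀ m ∈ Cfsg.Geo.matrixSet P, (LinearMap.ker L).map (Matrix.toLin' m) ≤ LinearMap.ker L := by
      rintro _ ⟨x, hx, rfl⟩
      refine (PrimeDim.mapsTo_iff_mulVec _ _).2 fun w hw => ?_
      rw [LinearMap.mem_ker] at hw ⊢
      have e : ((x : Matrix (Fin 3) (Fin 3) F) *ᵥ w) ⬝ᵥ G *ᵥ ((x : Matrix (Fin 3) (Fin 3) F) *ᵥ w) =
          w ⬝ᵥ G *ᵥ w := by
        conv_rhs => rw [← hinv' x hx]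
        rw [← Matrix.mulVec_mulVec, ← Matrix.mulVec_mulVec, Matrix.dotProduct_mulVec w,
          Matrix.vecMul_transpose]
      rw [hL, hL, hw, zero_mul] at e
      exact mul_self_eq_zero.1 e
    rcases R.absIrred.1 _ hW with h | h
    · have h1 := LinearMap.finrank_range_add_finrank_ker L
      rw [h, finrank_bot, Module.finrank_fin_fun] at h1
      have h3 := Submodule.finrank_le (LinearMap.range L)
      rw [Module.finrank_self] at h3
      omega
    · refine hG (PrimeDim.det_skew_eq_zero G (fun i j => ?_) (fun i => ?_) (by simp [Nat.odd_iff]))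
      · rw [CharTwo.neg_eq]; exact hsymm i j
      · have hi : L (Pi.single i 1) = 0 := LinearMap.mem_ker.1 (h ▸ Submodule.mem_top)
        have h4 := hL (Pi.single i 1)
        rw [hi, zero_mul] at h4
        simpa [dotProduct, Matrix.mulVec, Pi.single_apply] using h4
  · have hpol : ∀ u v, QuadraticMap.polar (fun v => v ⬝ᵥ G *ᵥ v) u v =
        PrimeDim.sesq (RingHom.id F) ((2 : F) • G) u v := fun u v => by
      have e01 := hsymm 1 0; have e02 := hsymm 2 0; have e12 := hsymm 2 1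
      simp [QuadraticMap.polar, PrimeDim.sesq, dotProduct, Matrix.mulVec, Fin.sum_univ_three, e01, e02, e12]
      ring
    refine ⟨fun v => v ⬝ᵥ G *ᵥ v, ⟨fun a v => ?_, ?_, ?_⟩, ?_⟩
    · rw [Matrix.mulVec_smul, smul_dotProduct, dotProduct_smul, smul_eq_mul, smul_eq_mul]; ring
    · rw [show QuadraticMap.polar (fun v => v ⬝ᵥ G *ᵥ v) = _ from funext fun u => funext (hpol u)]
      constructor <;> intros <;>
        simp [PrimeDim.sesq, dotProduct, Matrix.mulVec, Fin.sum_univ_three] <;> ring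
    · rw [show QuadraticMap.polar (fun v => v ⬝ᵥ G *ᵥ v) = _ from funext fun u => funext (hpol u)]
      refine PrimeDim.nondegenerate_of_det_ne_zero _ ?_
      rw [Matrix.det_smul]
      exact mul_ne_zero (pow_ne_zero _ h2) hG
    · rintro _ ⟨x, hx, rfl⟩ v
      show ((x : Matrix (Fin 3) (Fin 3) F) *ᵥ v) ⬝ᵥ G *ᵥ ((x : Matrix (Fin 3) (Fin 3) F) *ᵥ v) = _
      show _ = v ⬝ᵥ G *ᵥ v
      conv_rhs => rw [← hinv' x hx]
      rw [← Matrix.mulVec_mulVec, ← Matrix.mulVec_mulVec, Matrix.dotProduct_mulVec v,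
        Matrix.vecMul_transpose]

/-- A core dual to its conjugate fixes a unitary form. -/
theorem Res.fixes_unitary [Finite F] (R : Res P) (σ : F ≃+* F) (hne : σ ≠ RingEquiv.refl F)
    (hσ : ∀ a, σ (σ a) = a) (htr : ∀ x : ↥P, trc P x⁻¹ = σ (trc P x)) :
    ∃ f : (Fin 3 → F) → (Fin 3 → F) → F, Cfsg.Geo.IsUnitaryForm σ f ∧
      Cfsg.Geo.FixesForm (Cfsg.Geo.matrixSet P) f := by
  obtain ⟨G, hG, hinv⟩ := R.exists_gram (σ : F →+* F) hσ htr
  have hσG : ∀ M : Matrix (Fin 3) (Fin 3) F, (M.map σ).map σ = M := fun M => by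
    ext i j; simp [hσ]
  obtain ⟨c, hc⟩ := PrimeDim.invariant_unique R.absIrred.2 (σ : F →+* F) (isUnit_iff_ne_zero.2 hG) hinv
    (G' := (G.map σ)ᵀ) (fun x hx => by
      have h1 := congrArg (fun M => (M.map σ)ᵀ) (hinv x hx)
      simp only [Matrix.map_mul, Matrix.transpose_mul, RingHom.coe_coe, hσG, Matrix.transpose_map,
        Matrix.transpose_transpose] at h1
      simpa [mul_assoc] using h1)
  have hcc : σ c * c = 1 := by
    have h1 : G = (σ c * c) • G := by
      have e : ((((G.map σ)ᵀ).map σ)ᵀ) = G := by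
        rw [Matrix.transpose_map, Matrix.transpose_transpose, hσG]
      conv_lhs => rw [← e, hc]
      rw [Matrix.map_smul' σ c G (map_mul σ), Matrix.transpose_smul, hc, smul_smul]
    have h5 : (σ c * c - 1) • G = 0 := by rw [sub_smul, one_smul, ← h1, sub_self]
    rcases smul_eq_zero.1 h5 with h6 | h6
    · exact sub_eq_zero.1 h6
    · exact absurd (by rw [h6]; simp) hG
  obtain ⟨l, hl, hlc⟩ : ∃ l : F, l ≠ 0 ∧ σ l * c = l := by
    by_cases hm : c = -1
    · obtain ⟨y, hy⟩ : ∃ y, σ y ≠ y := by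
        by_contra hh
        push Not at hh
        exact hne (RingEquiv.ext fun a => by simpa using hh a)
      refine ⟨y - σ y, sub_ne_zero.2 (Ne.symm hy), ?_⟩
      rw [map_sub, hσ, hm]; ring
    · refine ⟨c + 1, fun h => hm (eq_neg_of_add_eq_zero_left h), ?_⟩
      rw [map_add, map_one]; linear_combination hcc
  have hherm : ((l • G).map σ)ᵀ = l • G := by
    rw [Matrix.map_smul' σ l G (map_mul σ), Matrix.transpose_smul, hc, smul_smul, hlc]
  refine ⟨PrimeDim.sesq (σ : F →+* F) (l • G),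
    PrimeDim.unitaryForm_of_gram hne hσ hherm (by rw [Matrix.det_smul]; exact mul_ne_zero (pow_ne_zero _ hl) hG),
    ?_⟩
  rintro _ ⟨x, hx, rfl⟩ u v
  have h2 : (x : Matrix (Fin 3) (Fin 3) F)ᵀ * (l • G) * (x : Matrix (Fin 3) (Fin 3) F).map σ = l • G := by
    have h3 := hinv x hx
    simp only [RingHom.coe_coe] at h3
    rw [Matrix.mul_smul, Matrix.smul_mul, h3]
  rw [PrimeDim.sesq_mulVec]
  exact congrArg (fun M => PrimeDim.sesq (σ : F →+* F) M u v) h2

/-- **`tr (x⁻¹) = (tr x) ^ p ^ k` gives an invariant form**, and says what `q` is. -/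
theorem Res.twist_cases [Fintype F] (R : Res P) {p α : ℕ} [Fact p.Prime] [CharP F p]
    (hF : Fintype.card F = p ^ α) {k : ℕ} (h : TraceRel P p k (-1)) :
    (∃ Q : (Fin 3 → F) → F, Cfsg.Geo.IsNondegenerateQuadraticForm Q ∧
      Cfsg.Geo.FixesQuadForm (Cfsg.Geo.matrixSet P) Q) ∨
    (α ∣ 2 * k ∧ ¬ α ∣ k ∧ ∃ (σ : F ≃+* F) (f : (Fin 3 → F) → (Fin 3 → F) → F),
      Cfsg.Geo.IsUnitaryForm σ f ∧ Cfsg.Geo.FixesForm (Cfsg.Geo.matrixSet P) f) := by
  haveI : ExpChar F p := ExpChar.prime Fact.out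
  have h2k : α ∣ 2 * k := R.dvd_of_fix hF fun x => by
    have h1 := h x
    have h3 := h (x ^ (-1 : ℤ))
    rw [zpow_one, two_mul, pow_add, pow_mul, h1, h3, ← _root_.zpow_mul]
    norm_num
  have hfix : ∀ m, α ∣ m → ∀ a : F, a ^ p ^ m = a := by
    rintro m ⟨j, rfl⟩ a
    rw [pow_mul, ← hF, FiniteField.pow_card_pow]
  by_cases hk : α ∣ k
  · exact Or.inl (R.fixes_quad_of_selfdual fun x => by
      have := h x
      rw [hfix k hk, _root_.zpow_neg_one] at this
      exact this.symm)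
  · let σ : F ≃+* F := RingEquiv.ofBijective (iterateFrobenius F p k)
      (Finite.injective_iff_bijective.1 (iterateFrobenius_inj F p k))
    have hσ' : ∀ a, σ a = a ^ p ^ k := fun a => iterateFrobenius_def ..
    have hσ : ∀ a, σ (σ a) = a := fun a => by
      rw [hσ', hσ', ← pow_mul, ← pow_add, ← two_mul, hfix _ h2k]
    have hne : σ ≠ RingEquiv.refl F := fun he => hk (R.dvd_of_fix hF fun x => by
      rw [zpow_one, ← hσ', he]; rfl)
    obtain ⟨f, hf, hfix⟩ := R.fixes_unitary σ hne hσ fun x => by rw [hσ', h x, _root_.zpow_neg_one]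
    exact Or.inr ⟨h2k, hk, σ, f, hf, hfix⟩

end Cfsg.Agent.Mitchell.Residual
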